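import Cfsg.Agent.Lang.InvClasses
import Cfsg.Agent.Chev.TablesE8

/-! Tables of the two classes of involutions of type E8 (owner: helper32; generated). -/

set_option autoImplicit false

namespace Cfsg.Agent.Lang

open Cfsg.Lie
open Cfsg.Agent.Chev (certE8)

namespace InvE8

/-- A word with the rank as a literal. -/
abbrev W := List (Fin 8)

/-- The inverse of the Cartan matrix. -/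
def binv : List (List ℤ) := [[4, 5, 7, 10, 8, 6, 4, 2], [5, 8, 10, 15, 12, 9, 6, 3], [7, 10, 14, 20, 16, 12, 8, 4], [10, 15, 20, 30, 24, 18, 12, 6], [8, 12, 16, 24, 20, 15, 10, 5], [6, 9, 12, 18, 15, 12, 8, 4], [4, 6, 8, 12, 10, 8, 6, 3], [2, 3, 4, 6, 5, 4, 3, 2]]

set_option maxHeartbeats 0 in
set_option maxRecDepth 100000 in
/-- The generators of class 1. -/
def gens1 : List (W × Fin 8) := [([], 2), ([], 3), ([], 4), ([], 1), ([], 5), ([], 6), ([], 7), ([0, 2, 3, 4, 5, 6, 1, 3, 4, 5, 2, 3, 4, 1, 3, 2], 0)]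

set_option maxHeartbeats 0 in
set_option maxRecDepth 100000 in
/-- The transversal of class 1. -/
def trans1 : List W := [[], [0], [2, 0], [3, 2, 0], [1, 3, 2, 0], [4, 3, 2, 0], [4, 1, 3, 2, 0], [5, 4, 3, 2, 0], [3, 4, 1, 3, 2, 0], [5, 4, 1, 3, 2, 0], [6, 5, 4, 3, 2, 0], [2, 3, 4, 1, 3, 2, 0], [5, 3, 4, 1, 3, 2, 0], [6, 5, 4, 1, 3, 2, 0], [7, 6, 5, 4, 3, 2, 0], [0, 2, 3, 4, 1, 3, 2, 0], [5, 2, 3, 4, 1, 3, 2, 0], [4, 5, 3, 4, 1, 3, 2, 0], [6, 5, 3, 4, 1, 3, 2, 0], [7, 6, 5, 4, 1, 3, 2, 0], [5, 0, 2, 3, 4, 1, 3, 2, 0], [4, 5, 2, 3, 4, 1, 3, 2, 0], [6, 5, 2, 3, 4, 1, 3, 2, 0], [6, 4, 5, 3, 4, 1, 3, 2, 0], [7, 6, 5, 3, 4, 1, 3, 2, 0], [4, 5, 0, 2, 3, 4, 1, 3, 2, 0], [6, 5, 0, 2, 3, 4, 1, 3, 2, 0], [3, 4, 5, 2, 3, 4, 1, 3, 2, 0], [6,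 4, 5, 2, 3, 4, 1, 3, 2, 0], [7, 6, 5, 2, 3, 4, 1, 3, 2, 0], [5, 6, 4, 5, 3, 4, 1, 3, 2, 0], [7, 6, 4, 5, 3, 4, 1, 3, 2, 0], [3, 4, 5, 0, 2, 3, 4, 1, 3, 2, 0], [6, 4, 5, 0, 2, 3, 4, 1, 3, 2, 0], [7, 6, 5, 0, 2, 3, 4, 1, 3, 2, 0], [1, 3, 4, 5, 2, 3, 4, 1, 3, 2, 0], [6, 3, 4, 5, 2, 3, 4, 1, 3, 2, 0], [5, 6, 4, 5, 2, 3, 4, 1, 3, 2, 0], [7, 6, 4, 5, 2, 3, 4, 1, 3, 2, 0], [7, 5, 6, 4, 5, 3, 4, 1, 3, 2, 0], [1, 3, 4, 5, 0, 2, 3, 4, 1, 3, 2, 0], [2, 3, 4, 5, 0, 2, 3, 4, 1, 3, 2, 0], [6, 3, 4, 5, 0, 2, 3, 4, 1, 3, 2, 0], [5, 6, 4, 5, 0, 2, 3, 4, 1, 3, 2, 0], [7, 6, 4, 5, 0, 2, 3, 4, 1, 3, 2, 0], [6, 1, 3, 4, 5, 2, 3, 4, 1, 3, 2, 0], [5, 6, 3, 4, 5, 2, 3, 4, 1, 3, 2, 0], [7, 6, 3, 4, 5, 2, 3, 4, 1, 3, 2, 0], [7, 5, 6, 4, 5, 2, 3, 4, 1, 3,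 2, 0], [6, 7, 5, 6, 4, 5, 3, 4, 1, 3, 2, 0], [2, 1, 3, 4, 5, 0, 2, 3, 4, 1, 3, 2, 0], [6, 1, 3, 4, 5, 0, 2, 3, 4, 1, 3, 2, 0], [6, 2, 3, 4, 5, 0, 2, 3, 4, 1, 3, 2, 0], [5, 6, 3, 4, 5, 0, 2, 3, 4, 1, 3, 2, 0], [7, 6, 3, 4, 5, 0, 2, 3, 4, 1, 3, 2, 0], [7, 5, 6, 4, 5, 0, 2, 3, 4, 1, 3, 2, 0], [5, 6, 1, 3, 4, 5, 2, 3, 4, 1, 3, 2, 0], [7, 6, 1, 3, 4, 5, 2, 3, 4, 1, 3, 2, 0], [4, 5, 6, 3, 4, 5, 2, 3, 4, 1, 3, 2, 0], [7, 5, 6, 3, 4, 5, 2, 3, 4, 1, 3, 2, 0], [6, 7, 5, 6, 4, 5, 2, 3, 4, 1, 3, 2, 0], [3, 2, 1, 3, 4, 5, 0, 2, 3, 4, 1, 3, 2, 0], [6, 2, 1, 3, 4, 5, 0, 2, 3, 4, 1, 3, 2, 0], [5, 6, 1, 3, 4, 5, 0, 2, 3, 4, 1, 3, 2, 0], [7, 6, 1, 3, 4, 5, 0, 2, 3, 4, 1, 3, 2, 0], [5, 6, 2, 3, 4, 5, 0, 2, 3, 4, 1, 3, 2, 0], [7, 6, 2, 3, 4, 5, 0, 2,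 3, 4, 1, 3, 2, 0], [4, 5, 6, 3, 4, 5, 0, 2, 3, 4, 1, 3, 2, 0], [7, 5, 6, 3, 4, 5, 0, 2, 3, 4, 1, 3, 2, 0], [6, 7, 5, 6, 4, 5, 0, 2, 3, 4, 1, 3, 2, 0], [4, 5, 6, 1, 3, 4, 5, 2, 3, 4, 1, 3, 2, 0], [7, 5, 6, 1, 3, 4, 5, 2, 3, 4, 1, 3, 2, 0], [7, 4, 5, 6, 3, 4, 5, 2, 3, 4, 1, 3, 2, 0], [6, 7, 5, 6, 3, 4, 5, 2, 3, 4, 1, 3, 2, 0], [4, 3, 2, 1, 3, 4, 5, 0, 2, 3, 4, 1, 3, 2, 0], [6, 3, 2, 1, 3, 4, 5, 0, 2, 3, 4, 1, 3, 2, 0], [5, 6, 2, 1, 3, 4, 5, 0, 2, 3, 4, 1, 3, 2, 0], [7, 6, 2, 1, 3, 4, 5, 0, 2, 3, 4, 1, 3, 2, 0], [4, 5, 6, 1, 3, 4, 5, 0, 2, 3, 4, 1, 3, 2, 0], [7, 5, 6, 1, 3, 4, 5, 0, 2, 3, 4, 1, 3, 2, 0], [4, 5, 6, 2, 3, 4, 5, 0, 2, 3, 4, 1, 3, 2, 0], [7, 5, 6, 2, 3, 4, 5, 0, 2, 3, 4, 1, 3, 2, 0], [7, 4, 5, 6, 3, 4, 5, 0, 2, 3, 4, 1,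 3, 2, 0], [6, 7, 5, 6, 3, 4, 5, 0, 2, 3, 4, 1, 3, 2, 0], [3, 4, 5, 6, 1, 3, 4, 5, 2, 3, 4, 1, 3, 2, 0], [7, 4, 5, 6, 1, 3, 4, 5, 2, 3, 4, 1, 3, 2, 0], [6, 7, 5, 6, 1, 3, 4, 5, 2, 3, 4, 1, 3, 2, 0], [6, 7, 4, 5, 6, 3, 4, 5, 2, 3, 4, 1, 3, 2, 0], [5, 4, 3, 2, 1, 3, 4, 5, 0, 2, 3, 4, 1, 3, 2, 0], [6, 4, 3, 2, 1, 3, 4, 5, 0, 2, 3, 4, 1, 3, 2, 0], [5, 6, 3, 2, 1, 3, 4, 5, 0, 2, 3, 4, 1, 3, 2, 0], [7, 6, 3, 2, 1, 3, 4, 5, 0, 2, 3, 4, 1, 3, 2, 0], [4, 5, 6, 2, 1, 3, 4, 5, 0, 2, 3, 4, 1, 3, 2, 0], [7, 5, 6, 2, 1, 3, 4, 5, 0, 2, 3, 4, 1, 3, 2, 0], [3, 4, 5, 6, 1, 3, 4, 5, 0, 2, 3, 4, 1, 3, 2, 0], [7, 4, 5, 6, 1, 3, 4, 5, 0, 2, 3, 4, 1, 3, 2, 0], [6, 7, 5, 6, 1, 3, 4, 5, 0, 2, 3, 4, 1, 3, 2, 0], [3, 4, 5, 6, 2, 3, 4, 5, 0, 2, 3, 4, 1, 3, 2,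 0], [7, 4, 5, 6, 2, 3, 4, 5, 0, 2, 3, 4, 1, 3, 2, 0], [6, 7, 5, 6, 2, 3, 4, 5, 0, 2, 3, 4, 1, 3, 2, 0], [6, 7, 4, 5, 6, 3, 4, 5, 0, 2, 3, 4, 1, 3, 2, 0], [2, 3, 4, 5, 6, 1, 3, 4, 5, 2, 3, 4, 1, 3, 2, 0], [7, 3, 4, 5, 6, 1, 3, 4, 5, 2, 3, 4, 1, 3, 2, 0], [6, 7, 4, 5, 6, 1, 3, 4, 5, 2, 3, 4, 1, 3, 2, 0], [5, 6, 7, 4, 5, 6, 3, 4, 5, 2, 3, 4, 1, 3, 2, 0], [7, 6, 4, 3, 2, 1, 3, 4, 5, 0, 2, 3, 4, 1, 3, 2, 0], [7, 5, 6, 3, 2, 1, 3, 4, 5, 0, 2, 3, 4, 1, 3, 2, 0], [7, 4, 5, 6, 2, 1, 3, 4, 5, 0, 2, 3, 4, 1, 3, 2, 0], [6, 7, 5, 6, 2, 1, 3, 4, 5, 0, 2, 3, 4, 1, 3, 2, 0], [7, 3, 4, 5, 6, 1, 3, 4, 5, 0, 2, 3, 4, 1, 3, 2, 0], [6, 7, 4, 5, 6, 1, 3, 4, 5, 0, 2, 3, 4, 1, 3, 2, 0], [7, 3, 4, 5, 6, 2, 3, 4, 5, 0, 2, 3, 4, 1, 3, 2, 0], [6, 7, 4, 5, 6,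 2, 3, 4, 5, 0, 2, 3, 4, 1, 3, 2, 0], [5, 6, 7, 4, 5, 6, 3, 4, 5, 0, 2, 3, 4, 1, 3, 2, 0], [7, 2, 3, 4, 5, 6, 1, 3, 4, 5, 2, 3, 4, 1, 3, 2, 0], [6, 7, 3, 4, 5, 6, 1, 3, 4, 5, 2, 3, 4, 1, 3, 2, 0], [5, 6, 7, 4, 5, 6, 1, 3, 4, 5, 2, 3, 4, 1, 3, 2, 0], [6, 7, 5, 6, 3, 2, 1, 3, 4, 5, 0, 2, 3, 4, 1, 3, 2, 0], [6, 7, 4, 5, 6, 2, 1, 3, 4, 5, 0, 2, 3, 4, 1, 3, 2, 0], [6, 7, 3, 4, 5, 6, 1, 3, 4, 5, 0, 2, 3, 4, 1, 3, 2, 0], [5, 6, 7, 4, 5, 6, 1, 3, 4, 5, 0, 2, 3, 4, 1, 3, 2, 0], [6, 7, 3, 4, 5, 6, 2, 3, 4, 5, 0, 2, 3, 4, 1, 3, 2, 0], [5, 6, 7, 4, 5, 6, 2, 3, 4, 5, 0, 2, 3, 4, 1, 3, 2, 0], [6, 7, 2, 3, 4, 5, 6, 1, 3, 4, 5, 2, 3, 4, 1, 3, 2, 0], [5, 6, 7, 3, 4, 5, 6, 1, 3, 4, 5, 2, 3, 4, 1, 3, 2, 0], [5, 6, 7, 4, 5, 6, 2, 1, 3, 4, 5, 0, 2, 3,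 4, 1, 3, 2, 0], [5, 6, 7, 3, 4, 5, 6, 1, 3, 4, 5, 0, 2, 3, 4, 1, 3, 2, 0], [5, 6, 7, 3, 4, 5, 6, 2, 3, 4, 5, 0, 2, 3, 4, 1, 3, 2, 0], [5, 6, 7, 2, 3, 4, 5, 6, 1, 3, 4, 5, 2, 3, 4, 1, 3, 2, 0], [4, 5, 6, 7, 3, 4, 5, 6, 1, 3, 4, 5, 2, 3, 4, 1, 3, 2, 0], [4, 5, 6, 7, 3, 4, 5, 6, 1, 3, 4, 5, 0, 2, 3, 4, 1, 3, 2, 0], [4, 5, 6, 7, 3, 4, 5, 6, 2, 3, 4, 5, 0, 2, 3, 4, 1, 3, 2, 0], [4, 5, 6, 7, 2, 3, 4, 5, 6, 1, 3, 4, 5, 2, 3, 4, 1, 3, 2, 0], [3, 4, 5, 6, 7, 2, 3, 4, 5, 6, 1, 3, 4, 5, 2, 3, 4, 1, 3, 2, 0], [1, 3, 4, 5, 6, 7, 2, 3, 4, 5, 6, 1, 3, 4, 5, 2, 3, 4, 1, 3, 2, 0]]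

set_option maxHeartbeats 0 in
set_option maxRecDepth 100000 in
/-- Level 0 of class 1. -/
def lev1_0 : ChainLevel chevE8 where
  P := [135]
  reps := ([[], [2]] : List W)
  expr := [[], [0]]
  next := [[1], [0]]

set_option maxHeartbeats 0 in
set_option maxRecDepth 100000 in
/-- Level 1 of class 1. -/
def lev1_1 : ChainLevel chevE8 where
  P := [130, 135, 136]
  reps := ([[], [3], [2, 3]] : List W)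
  expr := [[], [1], [0, 1]]
  next := [[3, 1], [2, 0], [1, 3]]

set_option maxHeartbeats 0 in
set_option maxRecDepth 100000 in
/-- Level 2 of class 1. -/
def lev1_2 : ChainLevel chevE8 where
  P := [126, 130, 131, 135, 136, 137]
  reps := ([[], [4], [3, 4], [2, 3, 4]] : List W)
  expr := [[], [2], [1, 2], [0, 1, 2]]
  next := [[4, 5, 1], [4, 2, 0], [3, 1, 5], [2, 4, 5]]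

set_option maxHeartbeats 0 in
set_option maxRecDepth 100000 in
/-- Level 3 of class 1. -/
def lev1_3 : ChainLevel chevE8 where
  P := [126, 130, 131, 135, 136, 137, 141, 142, 143, 147, 148, 152]
  reps := ([[], [1], [3, 1], [2, 3, 1], [4, 3, 1], [4, 2, 3, 1], [3, 4, 2, 3, 1], [1, 3, 4, 2, 3, 1]] : List W)
  expr := [[], [3], [1, 3], [0, 1, 3], [2, 1, 3], [2, 0, 1, 3], [1, 2, 0, 1, 3], [3, 1, 2, 0, 1, 3]]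
  next := [[8, 9, 10, 1], [8, 2, 10, 0], [3, 1, 4, 9], [2, 8, 5, 9], [5, 10, 2, 9], [4, 6, 3, 9], [10, 5, 8, 7], [10, 9, 8, 6]]

set_option maxHeartbeats 0 in
set_option maxRecDepth 100000 in
/-- Level 4 of class 1. -/
def lev1_4 : ChainLevel chevE8 where
  P := [123, 126, 127, 130, 131, 132, 135, 136, 137, 138, 141, 142, 143, 144, 147, 148, 149, 152, 153, 156]
  reps := ([[], [5], [4, 5], [3, 4, 5], [2, 3, 4, 5], [1, 3, 4, 5], [2, 1, 3, 4, 5], [3, 2, 1, 3, 4, 5], [4, 3, 2, 1, 3, 4, 5], [5, 4, 3, 2, 1, 3, 4, 5]] : List W)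
  expr := [[], [4], [2, 4], [1, 2, 4], [0, 1, 2, 4], [3, 1, 2, 4], [3, 0, 1, 2, 4], [1, 3, 0, 1, 2, 4], [2, 1, 3, 0, 1, 2, 4], [4, 2, 1, 3, 0, 1, 2, 4]]
  next := [[10, 11, 12, 13, 1], [10, 11, 2, 13, 0], [10, 3, 1, 13, 12], [4, 2, 11, 5, 12], [3, 10, 11, 6, 12], [6, 13, 11, 3, 12], [5, 7, 11, 4, 12], [13, 6, 8, 10, 12], [13, 11, 7, 10, 9], [13, 11, 12, 10, 8]]

set_option maxHeartbeats 0 in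
set_option maxRecDepth 100000 in
/-- Level 5 of class 1. -/
def lev1_5 : ChainLevel chevE8 where
  P := [121, 123, 124, 126, 127, 128, 130, 131, 132, 133, 135, 136, 137, 138, 139, 141, 142, 143, 144, 145, 147, 148, 149, 150, 152, 153, 154, 156, 157, 159]
  reps := ([[], [6], [5, 6], [4, 5, 6], [3, 4, 5, 6], [2, 3, 4, 5, 6], [1, 3, 4, 5, 6], [2, 1, 3, 4, 5, 6], [3, 2, 1, 3, 4, 5, 6], [4, 3, 2, 1, 3, 4, 5, 6], [5, 4, 3, 2, 1, 3, 4, 5, 6], [6, 5, 4, 3, 2, 1, 3, 4, 5, 6]] : List W)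
  expr := [[], [5], [4, 5], [2, 4, 5], [1, 2, 4, 5], [0, 1, 2, 4, 5], [3, 1, 2, 4, 5], [3, 0, 1, 2, 4, 5], [1, 3, 0, 1, 2, 4, 5], [2, 1, 3, 0, 1, 2, 4, 5], [4, 2, 1, 3, 0, 1, 2, 4, 5], [5, 4, 2, 1, 3, 0, 1, 2, 4, 5]]
  next := [[12, 13, 14, 15, 16, 1], [12, 13, 14, 15, 2, 0], [12, 13, 3, 15, 1, 16], [12, 4, 2, 15, 14, 16], [5, 3, 13, 6, 14, 16], [4, 12, 13, 7, 14, 16], [7, 15, 13, 4, 14, 16], [6, 8, 13, 5, 14, 16], [15, 7, 9, 12, 14, 16], [15, 13, 8, 12, 10, 16], [15, 13, 14, 12, 9, 11], [15, 13, 14, 12, 16, 10]]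

set_option maxHeartbeats 0 in
set_option maxRecDepth 100000 in
/-- Level 6 of class 1. -/
def lev1_6 : ChainLevel chevE8 where
  P := [120, 121, 122, 123, 124, 125, 126, 127, 128, 129, 130, 131, 132, 133, 134, 135, 136, 137, 138, 139, 140, 141, 142, 143, 144, 145, 146, 147, 148, 149, 150, 151, 152, 153, 154, 155, 156, 157, 158, 159, 160, 161]
  reps := ([[], [7], [6, 7], [5, 6, 7], [4, 5, 6, 7], [3, 4, 5, 6, 7], [2, 3, 4, 5, 6, 7], [1, 3, 4, 5, 6, 7], [2, 1, 3, 4, 5, 6, 7], [3, 2, 1, 3, 4, 5, 6, 7], [4, 3, 2, 1, 3, 4, 5, 6, 7], [5, 4, 3, 2, 1, 3, 4, 5, 6, 7], [6, 5, 4, 3, 2, 1, 3, 4, 5, 6, 7], [7, 6, 5, 4, 3, 2, 1, 3, 4, 5, 6, 7]] : List W)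
  expr := [[], [6], [5, 6], [4, 5, 6], [2, 4, 5, 6], [1, 2, 4, 5, 6], [0, 1, 2, 4, 5, 6], [3, 1, 2, 4, 5, 6], [3, 0, 1, 2, 4, 5, 6], [1, 3, 0, 1, 2, 4, 5, 6], [2, 1, 3, 0, 1, 2, 4, 5, 6], [4, 2, 1, 3, 0, 1, 2, 4, 5, 6], [5, 4, 2, 1, 3, 0, 1, 2, 4, 5, 6], [6, 5, 4, 2, 1, 3, 0, 1, 2, 4, 5, 6]]
  next := [[14, 15, 16, 17, 18, 19, 1], [14, 15, 16, 17, 18, 2, 0], [14, 15, 16, 17, 3, 1, 19], [14, 15, 4, 17, 2, 18, 19], [14, 5, 3, 17, 16, 18, 19], [6, 4, 15, 7, 16, 18, 19], [5, 14, 15, 8, 16, 18, 19], [8, 17, 15, 5, 16, 18, 19], [7, 9, 15, 6, 16, 18, 19], [17, 8, 10, 14, 16, 18, 19], [17, 15, 9, 14, 11, 18, 19], [17, 15, 16, 14, 10, 12, 19], [17, 15, 16, 14, 18, 11, 13], [17, 15, 16, 14, 18, 19, 12]]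

set_option maxHeartbeats 0 in
set_option maxRecDepth 100000 in
/-- Level 7 of class 1. -/
def lev1_7 : ChainLevel chevE8 where
  P := [120, 121, 122, 123, 124, 125, 126, 127, 128, 129, 130, 131, 132, 133, 134, 135, 136, 137, 138, 139, 140, 141, 142, 143, 144, 145, 146, 147, 148, 149, 150, 151, 152, 153, 154, 155, 156, 157, 158, 159, 160, 161, 226, 227, 228, 229, 230, 231, 232, 233, 234, 235, 236, 237, 238, 239]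
  reps := ([[], [0, 2, 3, 4, 5, 1, 3, 4, 2, 3, 0, 2, 1, 3, 4, 5, 6, 5, 4, 3, 2, 1, 3, 4, 5, 0, 2, 3, 4, 1, 3, 2, 0], [7, 0, 2, 3, 4, 5, 1, 3, 4, 2, 3, 0, 2, 1, 3, 4, 5, 6, 5, 4, 3, 2, 1, 3, 4, 5, 0, 2, 3, 4, 1, 3, 2, 0], [6, 7, 0, 2, 3, 4, 5, 1, 3, 4, 2, 3, 0, 2, 1, 3, 4, 5, 6, 5, 4, 3, 2, 1, 3, 4, 5, 0, 2, 3, 4, 1, 3, 2, 0], [5, 6, 7, 0, 2, 3, 4, 5, 1, 3, 4, 2, 3, 0, 2, 1, 3, 4, 5, 6, 5, 4, 3, 2, 1, 3, 4, 5, 0, 2, 3, 4, 1, 3, 2, 0], [4, 5, 6, 7, 0, 2, 3, 4, 5, 1, 3, 4, 2, 3, 0, 2, 1, 3, 4, 5, 6, 5, 4, 3, 2, 1, 3, 4, 5, 0, 2, 3, 4, 1, 3, 2, 0], [3, 4, 5, 6, 7, 0, 2, 3, 4, 5, 1, 3, 4, 2, 3, 0, 2, 1, 3, 4, 5, 6, 5, 4, 3, 2, 1, 3, 4, 5, 0, 2, 3, 4, 1, 3, 2, 0], [2, 3, 4, 5, 6, 7, 0, 2, 3, 4, 5, 1, 3, 4, 2, 3, 0, 2, 1, 3, 4, 5, 6, 5,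 4, 3, 2, 1, 3, 4, 5, 0, 2, 3, 4, 1, 3, 2, 0], [1, 3, 4, 5, 6, 7, 0, 2, 3, 4, 5, 1, 3, 4, 2, 3, 0, 2, 1, 3, 4, 5, 6, 5, 4, 3, 2, 1, 3, 4, 5, 0, 2, 3, 4, 1, 3, 2, 0], [2, 1, 3, 4, 5, 6, 7, 0, 2, 3, 4, 5, 1, 3, 4, 2, 3, 0, 2, 1, 3, 4, 5, 6, 5, 4, 3, 2, 1, 3, 4, 5, 0, 2, 3, 4, 1, 3, 2, 0], [3, 2, 1, 3, 4, 5, 6, 7, 0, 2, 3, 4, 5, 1, 3, 4, 2, 3, 0, 2, 1, 3, 4, 5, 6, 5, 4, 3, 2, 1, 3, 4, 5, 0, 2, 3, 4, 1, 3, 2, 0], [4, 3, 2, 1, 3, 4, 5, 6, 7, 0, 2, 3, 4, 5, 1, 3, 4, 2, 3, 0, 2, 1, 3, 4, 5, 6, 5, 4, 3, 2, 1, 3, 4, 5, 0, 2, 3, 4, 1, 3, 2, 0], [5, 4, 3, 2, 1, 3, 4, 5, 6, 7, 0, 2, 3, 4, 5, 1, 3, 4, 2, 3, 0, 2, 1, 3, 4, 5, 6, 5, 4, 3, 2, 1, 3, 4, 5, 0, 2, 3, 4, 1, 3, 2, 0], [6, 5, 4, 3, 2, 1, 3, 4, 5, 6, 7, 0, 2, 3, 4, 5, 1, 3, 4, 2, 3, 0, 2,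 1, 3, 4, 5, 6, 5, 4, 3, 2, 1, 3, 4, 5, 0, 2, 3, 4, 1, 3, 2, 0], [7, 6, 5, 4, 3, 2, 1, 3, 4, 5, 6, 7, 0, 2, 3, 4, 5, 1, 3, 4, 2, 3, 0, 2, 1, 3, 4, 5, 6, 5, 4, 3, 2, 1, 3, 4, 5, 0, 2, 3, 4, 1, 3, 2, 0], [0, 2, 3, 4, 5, 1, 3, 4, 2, 3, 0, 2, 1, 3, 4, 5, 6, 7, 5, 4, 3, 2, 1, 3, 4, 5, 6, 0, 2, 3, 4, 5, 1, 3, 4, 2, 3, 0, 2, 1, 3, 4, 5, 6, 7, 0, 2, 3, 4, 5, 1, 3, 4, 2, 3, 0, 2, 1, 3, 4, 5, 6, 5, 4, 3, 2, 1, 3, 4, 5, 0, 2, 3, 4, 1, 3, 2, 0]] : List W)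
  expr := [[], [7], [6, 7], [5, 6, 7], [4, 5, 6, 7], [2, 4, 5, 6, 7], [1, 2, 4, 5, 6, 7], [0, 1, 2, 4, 5, 6, 7], [3, 1, 2, 4, 5, 6, 7], [3, 0, 1, 2, 4, 5, 6, 7], [1, 3, 0, 1, 2, 4, 5, 6, 7], [2, 1, 3, 0, 1, 2, 4, 5, 6, 7], [4, 2, 1, 3, 0, 1, 2, 4, 5, 6, 7], [5, 4, 2, 1, 3, 0, 1, 2, 4, 5, 6, 7], [6, 5, 4, 2, 1, 3, 0, 1, 2, 4, 5, 6, 7], [7, 6, 5, 4, 2, 1, 3, 0, 1, 2, 4, 5, 6, 7]]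
  next := [[16, 17, 18, 19, 20, 21, 22, 1], [16, 17, 18, 19, 20, 21, 2, 0], [16, 17, 18, 19, 20, 3, 1, 22], [16, 17, 18, 19, 4, 2, 21, 22], [16, 17, 5, 19, 3, 20, 21, 22], [16, 6, 4, 19, 18, 20, 21, 22], [7, 5, 17, 8, 18, 20, 21, 22], [6, 16, 17, 9, 18, 20, 21, 22], [9, 19, 17, 6, 18, 20, 21, 22], [8, 10, 17, 7, 18, 20, 21, 22], [19, 9, 11, 16, 18, 20, 21, 22], [19, 17, 10, 16, 12, 20, 21, 22], [19, 17, 18, 16, 11, 13, 21, 22], [19, 17, 18, 16, 20, 12, 14, 22], [19, 17, 18, 16, 20, 21, 13, 15], [19, 17, 18, 16, 20, 21, 22, 14]]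

set_option maxHeartbeats 0 in
set_option maxRecDepth 100000 in
/-- The tables of class 1. -/
def tab1 : InvTab chevE8 where
  e := [0, 1, 1, 0, 0, 0, 0, 0]
  gens := gens1
  trans := trans1
  edges := [[1, 138, 135, 136, 137, 139, 140, 141], [0, 138, 2, 136, 137, 139, 140, 141], [135, 138, 1, 3, 137, 139, 140, 141], [135, 4, 136, 2, 5, 139, 140, 141], [135, 3, 136, 138, 6, 139, 140, 141], [135, 6, 136, 137, 3, 7, 140, 141], [135, 5, 136, 8, 4, 9, 140, 141], [135, 9, 136, 137, 139, 5, 10, 141], [135, 137, 11, 6, 138, 12, 140, 141], [135, 7, 136, 12, 139, 6, 13, 141], [135, 13, 136, 137, 139, 140, 7, 14], [15, 137, 8, 136, 138, 16, 140, 141], [135, 137, 16, 9, 17, 8, 18, 141], [135, 10, 136, 18, 139, 140, 9, 19], [135, 19, 136, 137,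 139, 140, 141, 10], [11, 137, 135, 136, 138, 20, 140, 141], [20, 137, 12, 136, 21, 11, 22, 141], [135, 137, 21, 139, 12, 138, 23, 141], [135, 137, 22, 13, 23, 140, 12, 24], [135, 14, 136, 24, 139, 140, 141, 13], [16, 137, 135, 136, 25, 15, 26, 141], [25, 137, 17, 27, 16, 138, 28, 141], [26, 137, 18, 136, 28, 140, 16, 29], [135, 137, 28, 139, 18, 30, 17, 31], [135, 137, 29, 19, 31, 140, 141, 18], [21, 137, 135, 32, 20, 138, 33, 141], [22, 137, 135, 136, 33, 140, 20, 34], [32, 35, 139, 21, 136, 138, 36, 141], [33, 137, 23, 36, 22, 37, 21, 38], [34, 137, 24, 136, 38, 140, 141, 22], [135, 137, 37, 139, 140, 23, 138, 39], [135, 137, 38, 139, 24, 39, 141, 23], [27, 40, 41, 25, 136, 138, 42, 141], [28, 137, 135, 42, 26, 43, 25, 44], [29,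 137, 135, 136, 44, 140, 141, 26], [40, 27, 139, 137, 136, 138, 45, 141], [42, 45, 139, 28, 136, 46, 27, 47], [43, 137, 30, 46, 140, 28, 138, 48], [44, 137, 31, 47, 29, 48, 141, 28], [135, 137, 48, 139, 140, 31, 49, 30], [35, 32, 50, 137, 136, 138, 51, 141], [139, 50, 32, 135, 136, 138, 52, 141], [36, 51, 52, 33, 136, 53, 32, 54], [37, 137, 135, 53, 140, 33, 138, 55], [38, 137, 135, 54, 34, 55, 141, 33], [51, 36, 139, 137, 136, 56, 35, 57], [53, 56, 139, 37, 58, 36, 138, 59], [54, 57, 139, 38, 136, 59, 141, 36], [55, 137, 39, 59, 140, 38, 60, 37], [135, 137, 60, 139, 140, 141, 39, 138], [139, 41, 40, 61, 136, 138, 62, 141], [45, 42, 62, 137, 136, 63, 40, 64], [139, 62, 42, 135, 136, 65, 41, 66], [46, 63, 65, 43, 67, 42, 138, 68],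 [47, 64, 66, 44, 136, 68, 141, 42], [48, 137, 135, 68, 140, 44, 69, 43], [63, 46, 139, 137, 70, 45, 138, 71], [64, 47, 139, 137, 136, 71, 141, 45], [67, 70, 139, 140, 46, 136, 138, 72], [68, 71, 139, 48, 72, 47, 73, 46], [69, 137, 49, 73, 140, 141, 48, 138], [139, 135, 137, 50, 74, 138, 75, 141], [139, 52, 51, 75, 136, 76, 50, 77], [56, 53, 76, 137, 78, 51, 138, 79], [57, 54, 77, 137, 136, 79, 141, 51], [139, 76, 53, 135, 80, 52, 138, 81], [139, 77, 54, 135, 136, 81, 141, 52], [58, 78, 80, 140, 53, 136, 138, 82], [59, 79, 81, 55, 82, 54, 83, 53], [60, 137, 135, 83, 140, 141, 55, 138], [78, 58, 139, 84, 56, 136, 138, 85], [79, 59, 139, 137, 85, 57, 86, 56], [82, 85, 139, 140, 59, 136, 87, 58], [83, 86, 139, 60, 87, 141, 59, 138],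 [139, 135, 137, 136, 61, 88, 89, 141], [139, 135, 137, 62, 89, 90, 61, 91], [139, 65, 63, 90, 92, 62, 138, 93], [139, 66, 64, 91, 136, 93, 141, 62], [70, 67, 92, 94, 63, 136, 138, 95], [71, 68, 93, 137, 95, 64, 96, 63], [139, 92, 67, 97, 65, 136, 138, 98], [139, 93, 68, 135, 98, 66, 99, 65], [72, 95, 98, 140, 68, 136, 100, 67], [73, 96, 99, 69, 100, 141, 68, 138], [94, 140, 101, 70, 137, 136, 138, 102], [95, 72, 139, 102, 71, 136, 103, 70], [96, 73, 139, 137, 103, 141, 71, 138], [100, 103, 139, 140, 73, 104, 72, 138], [139, 135, 137, 136, 138, 74, 142, 141], [139, 135, 137, 136, 75, 142, 74, 105], [139, 135, 137, 76, 142, 75, 138, 106], [139, 135, 137, 77, 105, 106, 141, 75], [139, 80, 78, 142, 76, 136, 138, 107], [139, 81, 79, 106,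 107, 77, 108, 76], [84, 140, 142, 78, 137, 136, 138, 109], [85, 82, 107, 109, 79, 136, 110, 78], [86, 83, 108, 137, 110, 141, 79, 138], [139, 142, 140, 80, 135, 136, 138, 111], [139, 107, 82, 111, 81, 136, 112, 80], [139, 108, 83, 135, 112, 141, 81, 138], [87, 110, 112, 140, 83, 113, 82, 138], [142, 140, 84, 139, 137, 136, 138, 114], [109, 140, 114, 85, 137, 136, 115, 84], [110, 87, 139, 115, 86, 116, 85, 138], [113, 116, 139, 140, 141, 87, 136, 138], [139, 135, 137, 136, 91, 142, 141, 89], [139, 135, 137, 93, 142, 91, 117, 90], [139, 98, 95, 142, 93, 136, 118, 92], [139, 99, 96, 117, 118, 141, 93, 138], [102, 140, 142, 95, 137, 136, 119, 94], [103, 100, 118, 119, 96, 120, 95, 138], [139, 142, 140, 98, 135, 136, 121, 97], [139, 118,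 100, 121, 99, 122, 98, 138], [104, 120, 122, 140, 141, 100, 136, 138], [142, 140, 102, 139, 137, 136, 123, 101], [119, 140, 123, 103, 137, 124, 102, 138], [120, 104, 139, 124, 141, 103, 136, 138], [139, 135, 137, 108, 142, 141, 106, 138], [139, 112, 110, 142, 108, 125, 107, 138], [115, 140, 142, 110, 137, 126, 109, 138], [116, 113, 125, 126, 141, 110, 136, 138], [139, 142, 140, 112, 135, 127, 111, 138], [139, 125, 113, 127, 141, 112, 136, 138], [142, 140, 115, 139, 137, 128, 114, 138], [126, 140, 128, 116, 129, 115, 136, 138], [139, 122, 120, 142, 141, 118, 136, 138], [124, 140, 142, 120, 130, 119, 136, 138], [139, 142, 140, 122, 131, 121, 136, 138], [142, 140, 124, 139, 132, 123, 136, 138], [130, 140, 132, 141, 124, 137, 136, 138],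 [129, 140, 142, 141, 126, 137, 136, 138], [139, 142, 140, 141, 127, 135, 136, 138], [142, 140, 129, 133, 128, 137, 136, 138], [142, 134, 141, 132, 139, 137, 136, 138], [142, 133, 141, 140, 139, 137, 136, 138]]
  levels := [lev1_0, lev1_1, lev1_2, lev1_3, lev1_4, lev1_5, lev1_6, lev1_7]

/-- The coroots of the generators of class 1. -/
def cor1 : List (List ℤ) := [[0, 0, 1, 0, 0, 0, 0, 0], [0, 0, 0, 1, 0, 0, 0, 0], [0, 0, 0, 0, 1, 0, 0, 0], [0, 1, 0, 0, 0, 0, 0, 0], [0, 0, 0, 0, 0, 1, 0, 0], [0, 0, 0, 0, 0, 0, 1, 0], [0, 0, 0, 0, 0, 0, 0, 1], [2, 2, 3, 4, 3, 2, 1, 0]]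

/-- Twice the inverse of `cor1`. -/
def z1 : List (List ℤ) := [[-3, -4, -3, -2, -2, -1, 0, 1], [0, 0, 0, 2, 0, 0, 0, 0], [2, 0, 0, 0, 0, 0, 0, 0], [0, 2, 0, 0, 0, 0, 0, 0], [0, 0, 2, 0, 0, 0, 0, 0], [0, 0, 0, 0, 2, 0, 0, 0], [0, 0, 0, 0, 0, 2, 0, 0], [0, 0, 0, 0, 0, 0, 2, 0]]

/-- The exponents of the length polynomial of class 1. -/
def exps1 : List (List ℕ) := [[0, 1], [0, 1, 2], [0, 1, 2, 3], [0, 1, 2, 3, 3, 4, 5, 6], [0, 1, 2, 3, 4, 4, 5, 6, 7, 8], [0, 1, 2, 3, 4, 5, 5, 6, 7, 8, 9, 10], [0, 1, 2, 3, 4, 5, 6, 6, 7, 8, 9, 10, 11, 12], [0, 1, 2, 3, 4, 5, 6, 7, 7, 8, 9, 10, 11, 12, 13, 14]]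

set_option maxHeartbeats 0 in
set_option maxRecDepth 100000 in
/-- The generators of class 2. -/
def gens2 : List (W × Fin 8) := [([], 4), ([], 5), ([], 6), ([2, 3, 4, 1, 3, 2], 0), ([], 7), ([], 3), ([], 1), ([], 0)]

set_option maxHeartbeats 0 in
set_option maxRecDepth 100000 in
/-- The transversal of class 2. -/
def trans2 : List W := [[], [2], [0, 2], [3, 2], [3, 0, 2], [1, 3, 2], [4, 3, 2], [1, 3, 0, 2], [2, 3, 0, 2], [4, 3, 0, 2], [4, 1, 3, 2], [5, 4, 3, 2], [2, 1, 3, 0, 2], [4, 1, 3, 0, 2], [4, 2, 3, 0, 2], [5, 4, 3, 0, 2], [3, 4, 1, 3, 2], [5, 4, 1, 3, 2], [6, 5, 4, 3, 2], [3, 2, 1, 3, 0, 2], [4, 2, 1, 3, 0, 2], [3, 4, 1, 3, 0, 2], [5, 4, 1, 3, 0, 2], [3, 4, 2, 3, 0, 2], [5, 4, 2, 3, 0, 2], [6, 5, 4, 3, 0, 2], [2, 3, 4,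 1, 3, 2], [5, 3, 4, 1, 3, 2], [6, 5, 4, 1, 3, 2], [7, 6, 5, 4, 3, 2], [5, 4, 2, 1, 3, 0, 2], [5, 3, 4, 1, 3, 0, 2], [6, 5, 4, 1, 3, 0, 2], [5, 3, 4, 2, 3, 0, 2], [6, 5, 4, 2, 3, 0, 2], [7, 6, 5, 4, 3, 0, 2], [5, 2, 3, 4, 1, 3, 2], [4, 5, 3, 4, 1, 3, 2], [6, 5, 3, 4, 1, 3, 2], [7, 6, 5, 4, 1, 3, 2], [6, 5, 4, 2, 1, 3, 0, 2], [4, 5, 3, 4, 1, 3, 0, 2], [6, 5, 3, 4, 1, 3, 0, 2], [7, 6, 5, 4, 1, 3, 0, 2], [4, 5, 3, 4, 2, 3, 0, 2], [6, 5, 3, 4, 2, 3, 0, 2], [7, 6, 5, 4, 2, 3, 0, 2], [4, 5, 2, 3, 4, 1, 3, 2], [6, 5, 2, 3, 4, 1, 3, 2], [6, 4, 5, 3, 4, 1, 3, 2], [7, 6, 5, 3, 4, 1, 3, 2], [7, 6, 5, 4, 2, 1, 3, 0, 2], [6, 4, 5, 3, 4, 1, 3, 0, 2], [7, 6, 5, 3, 4, 1, 3, 0, 2], [6, 4, 5, 3, 4, 2, 3, 0, 2], [7, 6, 5, 3, 4, 2, 3, 0, 2], [3, 4, 5,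 2, 3, 4, 1, 3, 2], [6, 4, 5, 2, 3, 4, 1, 3, 2], [7, 6, 5, 2, 3, 4, 1, 3, 2], [5, 6, 4, 5, 3, 4, 1, 3, 2], [7, 6, 4, 5, 3, 4, 1, 3, 2], [5, 6, 4, 5, 3, 4, 1, 3, 0, 2], [7, 6, 4, 5, 3, 4, 1, 3, 0, 2], [5, 6, 4, 5, 3, 4, 2, 3, 0, 2], [7, 6, 4, 5, 3, 4, 2, 3, 0, 2], [1, 3, 4, 5, 2, 3, 4, 1, 3, 2], [6, 3, 4, 5, 2, 3, 4, 1, 3, 2], [5, 6, 4, 5, 2, 3, 4, 1, 3, 2], [7, 6, 4, 5, 2, 3, 4, 1, 3, 2], [7, 5, 6, 4, 5, 3, 4, 1, 3, 2], [7, 5, 6, 4, 5, 3, 4, 1, 3, 0, 2], [7, 5, 6, 4, 5, 3, 4, 2, 3, 0, 2], [6, 1, 3, 4, 5, 2, 3, 4, 1, 3, 2], [5, 6, 3, 4, 5, 2, 3, 4, 1, 3, 2], [7, 6, 3, 4, 5, 2, 3, 4, 1, 3, 2], [7, 5, 6, 4, 5, 2, 3, 4, 1, 3, 2], [6, 7, 5, 6, 4, 5, 3, 4, 1, 3, 2], [6, 7, 5, 6, 4, 5, 3, 4, 1, 3, 0, 2], [6, 7, 5, 6, 4, 5, 3, 4, 2, 3, 0,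 2], [5, 6, 1, 3, 4, 5, 2, 3, 4, 1, 3, 2], [7, 6, 1, 3, 4, 5, 2, 3, 4, 1, 3, 2], [4, 5, 6, 3, 4, 5, 2, 3, 4, 1, 3, 2], [7, 5, 6, 3, 4, 5, 2, 3, 4, 1, 3, 2], [6, 7, 5, 6, 4, 5, 2, 3, 4, 1, 3, 2], [4, 5, 6, 1, 3, 4, 5, 2, 3, 4, 1, 3, 2], [7, 5, 6, 1, 3, 4, 5, 2, 3, 4, 1, 3, 2], [7, 4, 5, 6, 3, 4, 5, 2, 3, 4, 1, 3, 2], [6, 7, 5, 6, 3, 4, 5, 2, 3, 4, 1, 3, 2], [3, 4, 5, 6, 1, 3, 4, 5, 2, 3, 4, 1, 3, 2], [7, 4, 5, 6, 1, 3, 4, 5, 2, 3, 4, 1, 3, 2], [6, 7, 5, 6, 1, 3, 4, 5, 2, 3, 4, 1, 3, 2], [6, 7, 4, 5, 6, 3, 4, 5, 2, 3, 4, 1, 3, 2], [2, 3, 4, 5, 6, 1, 3, 4, 5, 2, 3, 4, 1, 3, 2], [7, 3, 4, 5, 6, 1, 3, 4, 5, 2, 3, 4, 1, 3, 2], [6, 7, 4, 5, 6, 1, 3, 4, 5, 2, 3, 4, 1, 3, 2], [5, 6, 7, 4, 5, 6, 3, 4, 5, 2, 3, 4, 1, 3, 2], [0, 2, 3, 4, 5, 6,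 1, 3, 4, 5, 2, 3, 4, 1, 3, 2], [7, 2, 3, 4, 5, 6, 1, 3, 4, 5, 2, 3, 4, 1, 3, 2], [6, 7, 3, 4, 5, 6, 1, 3, 4, 5, 2, 3, 4, 1, 3, 2], [5, 6, 7, 4, 5, 6, 1, 3, 4, 5, 2, 3, 4, 1, 3, 2], [7, 0, 2, 3, 4, 5, 6, 1, 3, 4, 5, 2, 3, 4, 1, 3, 2], [6, 7, 2, 3, 4, 5, 6, 1, 3, 4, 5, 2, 3, 4, 1, 3, 2], [5, 6, 7, 3, 4, 5, 6, 1, 3, 4, 5, 2, 3, 4, 1, 3, 2], [6, 7, 0, 2, 3, 4, 5, 6, 1, 3, 4, 5, 2, 3, 4, 1, 3, 2], [5, 6, 7, 2, 3, 4, 5, 6, 1, 3, 4, 5, 2, 3, 4, 1, 3, 2], [4, 5, 6, 7, 3, 4, 5, 6, 1, 3, 4, 5, 2, 3, 4, 1, 3, 2], [5, 6, 7, 0, 2, 3, 4, 5, 6, 1, 3, 4, 5, 2, 3, 4, 1, 3, 2], [4, 5, 6, 7, 2, 3, 4, 5, 6, 1, 3, 4, 5, 2, 3, 4, 1, 3, 2], [4, 5, 6, 7, 0, 2, 3, 4, 5, 6, 1, 3, 4, 5, 2, 3, 4, 1, 3, 2], [3, 4, 5, 6, 7, 2, 3, 4, 5, 6, 1, 3, 4, 5, 2, 3, 4,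 1, 3, 2], [3, 4, 5, 6, 7, 0, 2, 3, 4, 5, 6, 1, 3, 4, 5, 2, 3, 4, 1, 3, 2], [1, 3, 4, 5, 6, 7, 2, 3, 4, 5, 6, 1, 3, 4, 5, 2, 3, 4, 1, 3, 2], [1, 3, 4, 5, 6, 7, 0, 2, 3, 4, 5, 6, 1, 3, 4, 5, 2, 3, 4, 1, 3, 2], [2, 3, 4, 5, 6, 7, 0, 2, 3, 4, 5, 6, 1, 3, 4, 5, 2, 3, 4, 1, 3, 2], [2, 1, 3, 4, 5, 6, 7, 0, 2, 3, 4, 5, 6, 1, 3, 4, 5, 2, 3, 4, 1, 3, 2], [3, 2, 1, 3, 4, 5, 6, 7, 0, 2, 3, 4, 5, 6, 1, 3, 4, 5, 2, 3, 4, 1, 3, 2], [4, 3, 2, 1, 3, 4, 5, 6, 7, 0, 2, 3, 4, 5, 6, 1, 3, 4, 5, 2, 3, 4, 1, 3, 2], [5, 4, 3, 2, 1, 3, 4, 5, 6, 7, 0, 2, 3, 4, 5, 6, 1, 3, 4, 5, 2, 3, 4, 1, 3, 2], [6, 5, 4, 3, 2, 1, 3, 4, 5, 6, 7, 0, 2, 3, 4, 5, 6, 1, 3, 4, 5, 2, 3, 4, 1, 3, 2], [7, 6, 5, 4, 3, 2, 1, 3, 4, 5, 6, 7, 0, 2, 3, 4, 5, 6, 1, 3, 4, 5, 2, 3, 4, 1,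 3, 2]]

set_option maxHeartbeats 0 in
set_option maxRecDepth 100000 in
/-- Level 0 of class 2. -/
def lev2_0 : ChainLevel chevE8 where
  P := [126]
  reps := ([[], [4]] : List W)
  expr := [[], [0]]
  next := [[1], [0]]

set_option maxHeartbeats 0 in
set_option maxRecDepth 100000 in
/-- Level 1 of class 2. -/
def lev2_1 : ChainLevel chevE8 where
  P := [123, 126, 127]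
  reps := ([[], [5], [4, 5]] : List W)
  expr := [[], [1], [0, 1]]
  next := [[3, 1], [2, 0], [1, 3]]

set_option maxHeartbeats 0 in
set_option maxRecDepth 100000 in
/-- Level 2 of class 2. -/
def lev2_2 : ChainLevel chevE8 where
  P := [121, 123, 124, 126, 127, 128]
  reps := ([[], [6], [5, 6], [4, 5, 6]] : List W)
  expr := [[], [2], [1, 2], [0, 1, 2]]
  next := [[4, 5, 1], [4, 2, 0], [3, 1, 5], [2, 4, 5]]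

set_option maxHeartbeats 0 in
set_option maxRecDepth 100000 in
/-- Level 3 of class 2. -/
def lev2_3 : ChainLevel chevE8 where
  P := [121, 123, 124, 126, 127, 128, 184, 185, 186, 188, 189, 191]
  reps := ([[], [2, 3, 0, 2, 1, 3, 4, 3, 2, 1, 3, 0, 2], [5, 2, 3, 0, 2, 1, 3, 4, 3, 2, 1, 3, 0, 2], [4, 5, 2, 3, 0, 2, 1, 3, 4, 3, 2, 1, 3, 0, 2], [6, 5, 2, 3, 0, 2, 1, 3, 4, 3, 2, 1, 3, 0, 2], [6, 4, 5, 2, 3, 0, 2, 1, 3, 4, 3, 2, 1, 3, 0, 2], [5, 6, 4, 5, 2, 3, 0, 2, 1, 3, 4, 3, 2, 1, 3, 0, 2], [2, 3, 0, 2, 1, 3, 4, 5, 6, 3, 2, 1, 3, 4, 5, 3, 2, 1, 3, 4, 3, 2, 1, 3, 0, 2]] : List W)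
  expr := [[], [3], [1, 3], [0, 1, 3], [2, 1, 3], [2, 0, 1, 3], [1, 2, 0, 1, 3], [3, 1, 2, 0, 1, 3]]
  next := [[8, 9, 10, 1], [8, 2, 10, 0], [3, 1, 4, 9], [2, 8, 5, 9], [5, 10, 2, 9], [4, 6, 3, 9], [10, 5, 8, 7], [10, 9, 8, 6]]

set_option maxHeartbeats 0 in
set_option maxRecDepth 100000 in
/-- Level 4 of class 2. -/
def lev2_4 : ChainLevel chevE8 where
  P := [120, 121, 122, 123, 124, 125, 126, 127, 128, 129, 184, 185, 186, 187, 188, 189, 190, 191, 192, 193]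
  reps := ([[], [7], [6, 7], [5, 6, 7], [4, 5, 6, 7], [2, 3, 0, 2, 1, 3, 4, 5, 6, 7, 3, 2, 1, 3, 0, 2], [4, 2, 3, 0, 2, 1, 3, 4, 5, 6, 7, 3, 2, 1, 3, 0, 2], [5, 4, 2, 3, 0, 2, 1, 3, 4, 5, 6, 7, 3, 2, 1, 3, 0, 2], [6, 5, 4, 2, 3, 0, 2, 1, 3, 4, 5, 6, 7, 3, 2, 1, 3, 0, 2], [7, 6, 5, 4, 2, 3, 0, 2, 1, 3, 4, 5, 6, 7, 3, 2, 1, 3, 0, 2]] : List W)
  expr := [[], [4], [2, 4], [1, 2, 4], [0, 1, 2, 4], [3, 1, 2, 4], [3, 0, 1, 2, 4], [1, 3, 0, 1, 2, 4], [2, 1, 3, 0, 1, 2, 4], [4, 2, 1, 3, 0, 1, 2, 4]]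
  next := [[10, 11, 12, 13, 1], [10, 11, 2, 13, 0], [10, 3, 1, 13, 12], [4, 2, 11, 5, 12], [3, 10, 11, 6, 12], [6, 13, 11, 3, 12], [5, 7, 11, 4, 12], [13, 6, 8, 10, 12], [13, 11, 7, 10, 9], [13, 11, 12, 10, 8]]

set_option maxHeartbeats 0 in
set_option maxRecDepth 100000 in
/-- Level 5 of class 2. -/
def lev2_5 : ChainLevel chevE8 where
  P := [120, 121, 122, 123, 124, 125, 126, 127, 128, 129, 130, 131, 132, 133, 134, 184, 185, 186, 187, 188, 189, 190, 191, 192, 193, 194, 195, 196, 197, 198, 199, 200, 201, 202, 203, 232]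
  reps := ([[], [3], [4, 3], [5, 4, 3], [6, 5, 4, 3], [2, 3, 0, 2, 1, 3, 4, 5, 3, 2, 1, 3, 4, 0, 2, 3], [6, 2, 3, 0, 2, 1, 3, 4, 5, 3, 2, 1, 3, 4, 0, 2, 3], [7, 6, 5, 4, 3], [5, 6, 2, 3, 0, 2, 1, 3, 4, 5, 3, 2, 1, 3, 4, 0, 2, 3], [7, 6, 2, 3, 0, 2, 1, 3, 4, 5, 3, 2, 1, 3, 4, 0, 2, 3], [4, 5, 6, 2, 3, 0, 2, 1, 3, 4, 5, 3, 2, 1, 3, 4, 0, 2, 3], [7, 5, 6, 2, 3, 0, 2, 1, 3, 4, 5, 3, 2, 1, 3, 4, 0, 2, 3], [7, 4, 5, 6, 2, 3, 0, 2, 1, 3, 4, 5, 3, 2, 1, 3, 4, 0, 2, 3], [3, 4, 5, 6, 2, 3, 0, 2, 1, 3, 4, 5, 3, 2, 1, 3, 4, 0, 2, 3], [6, 7, 5, 6, 2, 3, 0, 2, 1, 3, 4, 5, 3, 2, 1, 3, 4, 0, 2, 3], [6, 7, 4, 5, 6, 2, 3, 0, 2, 1, 3, 4, 5, 3, 2, 1, 3, 4, 0, 2, 3], [7, 3, 4, 5, 6, 2, 3, 0, 2, 1, 3, 4, 5, 3, 2, 1, 3, 4, 0, 2, 3], [5, 6, 7, 4, 5, 6,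 2, 3, 0, 2, 1, 3, 4, 5, 3, 2, 1, 3, 4, 0, 2, 3], [6, 7, 3, 4, 5, 6, 2, 3, 0, 2, 1, 3, 4, 5, 3, 2, 1, 3, 4, 0, 2, 3], [2, 3, 0, 2, 1, 3, 4, 5, 6, 7, 3, 2, 1, 3, 4, 5, 6, 3, 2, 1, 3, 4, 5, 3, 2, 1, 3, 4, 0, 2, 3], [5, 6, 7, 3, 4, 5, 6, 2, 3, 0, 2, 1, 3, 4, 5, 3, 2, 1, 3, 4, 0, 2, 3], [2, 3, 0, 2, 1, 3, 4, 5, 6, 7, 3, 0, 2, 1, 3, 4, 5, 6, 3, 2, 1, 3, 4, 5, 3, 2, 1, 3, 4, 0, 2, 3], [4, 5, 6, 7, 3, 4, 5, 6, 2, 3, 0, 2, 1, 3, 4, 5, 3, 2, 1, 3, 4, 0, 2, 3], [4, 2, 3, 0, 2, 1, 3, 4, 5, 6, 7, 3, 0, 2, 1, 3, 4, 5, 6, 3, 2, 1, 3, 4, 5, 3, 2, 1, 3, 4, 0, 2, 3], [5, 4, 2, 3, 0, 2, 1, 3, 4, 5, 6, 7, 3, 0, 2, 1, 3, 4, 5, 6, 3, 2, 1, 3, 4, 5, 3, 2, 1, 3, 4, 0, 2, 3], [6, 5, 4, 2, 3, 0, 2, 1, 3, 4, 5, 6, 7, 3, 0, 2, 1, 3, 4, 5, 6, 3, 2, 1, 3, 4,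 5, 3, 2, 1, 3, 4, 0, 2, 3], [7, 6, 5, 4, 2, 3, 0, 2, 1, 3, 4, 5, 6, 7, 3, 0, 2, 1, 3, 4, 5, 6, 3, 2, 1, 3, 4, 5, 3, 2, 1, 3, 4, 0, 2, 3]] : List W)
  expr := [[], [5], [0, 5], [1, 0, 5], [2, 1, 0, 5], [3, 1, 0, 5], [3, 2, 1, 0, 5], [4, 2, 1, 0, 5], [1, 3, 2, 1, 0, 5], [4, 3, 2, 1, 0, 5], [0, 1, 3, 2, 1, 0, 5], [4, 1, 3, 2, 1, 0, 5], [4, 0, 1, 3, 2, 1, 0, 5], [5, 0, 1, 3, 2, 1, 0, 5], [2, 4, 1, 3, 2, 1, 0, 5], [2, 4, 0, 1, 3, 2, 1, 0, 5], [5, 4, 0, 1, 3, 2, 1, 0, 5], [1, 2, 4, 0, 1, 3, 2, 1, 0, 5], [5, 2, 4, 0, 1, 3, 2, 1, 0, 5], [3, 1, 2, 4, 0, 1, 3, 2, 1, 0, 5], [5, 1, 2, 4, 0, 1, 3, 2, 1, 0, 5], [5, 3, 1, 2, 4, 0, 1, 3, 2, 1, 0, 5], [0, 5, 1, 2, 4, 0, 1, 3, 2, 1, 0, 5], [0, 5, 3, 1, 2, 4, 0, 1, 3, 2, 1, 0, 5], [1, 0, 5, 3, 1, 2,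 4, 0, 1, 3, 2, 1, 0, 5], [2, 1, 0, 5, 3, 1, 2, 4, 0, 1, 3, 2, 1, 0, 5], [4, 2, 1, 0, 5, 3, 1, 2, 4, 0, 1, 3, 2, 1, 0, 5]]
  next := [[27, 28, 29, 30, 31, 1], [2, 28, 29, 30, 31, 0], [1, 3, 29, 30, 31, 27], [28, 2, 4, 5, 31, 27], [28, 29, 3, 6, 7, 27], [28, 30, 6, 3, 31, 27], [28, 8, 5, 4, 9, 27], [28, 29, 31, 9, 4, 27], [10, 6, 30, 29, 11, 27], [28, 11, 31, 7, 6, 27], [8, 28, 30, 29, 12, 13], [12, 9, 14, 29, 8, 27], [11, 28, 15, 29, 10, 16], [27, 28, 30, 29, 16, 10], [15, 31, 11, 29, 30, 27], [14, 17, 12, 29, 30, 18], [27, 28, 18, 29, 13, 12], [31, 15, 28, 19, 30, 20], [27, 20, 16, 29, 30, 15], [31, 29, 28, 17, 30, 21], [22, 18, 28, 21, 30, 17], [23, 29, 28, 20, 30, 19], [20, 27, 28, 23, 30, 31], [21, 24, 28, 22, 30, 31], [29, 23,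 25, 27, 30, 31], [29, 28, 24, 27, 26, 31], [29, 28, 30, 27, 25, 31]]

set_option maxHeartbeats 0 in
set_option maxRecDepth 100000 in
/-- Level 6 of class 2. -/
def lev2_6 : ChainLevel chevE8 where
  P := [120, 121, 122, 123, 124, 125, 126, 127, 128, 129, 130, 131, 132, 133, 134, 141, 142, 143, 144, 145, 146, 184, 185, 186, 187, 188, 189, 190, 191, 192, 193, 194, 195, 196, 197, 198, 199, 200, 201, 202, 203, 204, 205, 206, 207, 208, 209, 210, 211, 212, 213, 214, 215, 216, 217, 218, 232, 234, 235, 236, 237, 238, 239]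
  reps := ([[], [1], [3, 1], [4, 3, 1], [5, 4, 3, 1], [6, 5, 4, 3, 1], [2, 3, 0, 2, 1, 3, 4, 5, 3, 2, 1, 3, 4, 0, 2, 3, 1], [6, 2, 3, 0, 2, 1, 3, 4, 5, 3, 2, 1, 3, 4, 0, 2, 3, 1], [7, 6, 5, 4, 3, 1], [5, 6, 2, 3, 0, 2, 1, 3, 4, 5, 3, 2, 1, 3, 4, 0, 2, 3, 1], [7, 6, 2, 3, 0, 2, 1, 3, 4, 5, 3, 2, 1, 3, 4, 0, 2, 3, 1], [4, 5, 6, 2, 3, 0, 2, 1, 3, 4, 5, 3, 2, 1, 3, 4, 0, 2, 3, 1], [7, 5, 6, 2, 3, 0, 2, 1, 3, 4, 5, 3, 2, 1, 3, 4, 0, 2, 3, 1], [7, 4, 5, 6, 2, 3, 0, 2, 1, 3, 4, 5, 3, 2, 1, 3, 4, 0, 2, 3, 1], [3, 4, 5, 6, 2, 3, 0, 2, 1, 3, 4, 5, 3, 2, 1, 3, 4, 0, 2, 3, 1], [6, 7, 5, 6, 2, 3, 0, 2, 1, 3, 4, 5, 3, 2, 1, 3, 4, 0, 2, 3, 1], [6, 7, 4, 5, 6, 2, 3, 0, 2, 1, 3, 4, 5, 3, 2, 1, 3, 4, 0, 2, 3, 1], [7, 3, 4, 5, 6, 2, 3, 0, 2, 1, 3,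 4, 5, 3, 2, 1, 3, 4, 0, 2, 3, 1], [1, 3, 4, 5, 6, 2, 3, 0, 2, 1, 3, 4, 5, 3, 2, 1, 3, 4, 0, 2, 3, 1], [5, 6, 7, 4, 5, 6, 2, 3, 0, 2, 1, 3, 4, 5, 3, 2, 1, 3, 4, 0, 2, 3, 1], [6, 7, 3, 4, 5, 6, 2, 3, 0, 2, 1, 3, 4, 5, 3, 2, 1, 3, 4, 0, 2, 3, 1], [7, 1, 3, 4, 5, 6, 2, 3, 0, 2, 1, 3, 4, 5, 3, 2, 1, 3, 4, 0, 2, 3, 1], [2, 3, 0, 2, 1, 3, 4, 5, 6, 7, 3, 2, 1, 3, 4, 5, 6, 3, 2, 1, 3, 4, 5, 3, 2, 1, 3, 4, 0, 2, 3, 1], [5, 6, 7, 3, 4, 5, 6, 2, 3, 0, 2, 1, 3, 4, 5, 3, 2, 1, 3, 4, 0, 2, 3, 1], [6, 7, 1, 3, 4, 5, 6, 2, 3, 0, 2, 1, 3, 4, 5, 3, 2, 1, 3, 4, 0, 2, 3, 1], [2, 3, 0, 2, 1, 3, 4, 5, 6, 7, 3, 0, 2, 1, 3, 4, 5, 6, 3, 2, 1, 3, 4, 5, 3, 2, 1, 3, 4, 0, 2, 3, 1], [4, 5, 6, 7, 3, 4, 5, 6, 2, 3, 0, 2, 1, 3, 4, 5, 3, 2, 1, 3, 4, 0, 2, 3, 1],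 [5, 6, 7, 1, 3, 4, 5, 6, 2, 3, 0, 2, 1, 3, 4, 5, 3, 2, 1, 3, 4, 0, 2, 3, 1], [4, 2, 3, 0, 2, 1, 3, 4, 5, 6, 7, 3, 0, 2, 1, 3, 4, 5, 6, 3, 2, 1, 3, 4, 5, 3, 2, 1, 3, 4, 0, 2, 3, 1], [2, 3, 0, 2, 1, 3, 4, 5, 6, 7, 2, 3, 0, 2, 1, 3, 4, 5, 6, 3, 2, 1, 3, 4, 5, 3, 2, 1, 3, 4, 0, 2, 3, 1], [4, 5, 6, 7, 1, 3, 4, 5, 6, 2, 3, 0, 2, 1, 3, 4, 5, 3, 2, 1, 3, 4, 0, 2, 3, 1], [5, 4, 2, 3, 0, 2, 1, 3, 4, 5, 6, 7, 3, 0, 2, 1, 3, 4, 5, 6, 3, 2, 1, 3, 4, 5, 3, 2, 1, 3, 4, 0, 2, 3, 1], [4, 2, 3, 0, 2, 1, 3, 4, 5, 6, 7, 2, 3, 0, 2, 1, 3, 4, 5, 6, 3, 2, 1, 3, 4, 5, 3, 2, 1, 3, 4, 0, 2, 3, 1], [3, 4, 5, 6, 7, 1, 3, 4, 5, 6, 2, 3, 0, 2, 1, 3, 4, 5, 3, 2, 1, 3, 4, 0, 2, 3, 1], [6, 5, 4, 2, 3, 0, 2, 1, 3, 4, 5, 6, 7, 3, 0, 2, 1, 3, 4, 5, 6, 3, 2, 1, 3, 4,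 5, 3, 2, 1, 3, 4, 0, 2, 3, 1], [5, 4, 2, 3, 0, 2, 1, 3, 4, 5, 6, 7, 2, 3, 0, 2, 1, 3, 4, 5, 6, 3, 2, 1, 3, 4, 5, 3, 2, 1, 3, 4, 0, 2, 3, 1], [3, 4, 2, 3, 0, 2, 1, 3, 4, 5, 6, 7, 2, 3, 0, 2, 1, 3, 4, 5, 6, 3, 2, 1, 3, 4, 5, 3, 2, 1, 3, 4, 0, 2, 3, 1], [7, 6, 5, 4, 2, 3, 0, 2, 1, 3, 4, 5, 6, 7, 3, 0, 2, 1, 3, 4, 5, 6, 3, 2, 1, 3, 4, 5, 3, 2, 1, 3, 4, 0, 2, 3, 1], [6, 5, 4, 2, 3, 0, 2, 1, 3, 4, 5, 6, 7, 2, 3, 0, 2, 1, 3, 4, 5, 6, 3, 2, 1, 3, 4, 5, 3, 2, 1, 3, 4, 0, 2, 3, 1], [5, 3, 4, 2, 3, 0, 2, 1, 3, 4, 5, 6, 7, 2, 3, 0, 2, 1, 3, 4, 5, 6, 3, 2, 1, 3, 4, 5, 3, 2, 1, 3, 4, 0, 2, 3, 1], [7, 6, 5, 4, 2, 3, 0, 2, 1, 3, 4, 5, 6, 7, 2, 3, 0, 2, 1, 3, 4, 5, 6, 3, 2, 1, 3, 4, 5, 3, 2, 1, 3, 4, 0, 2, 3, 1], [6, 5, 3, 4, 2, 3, 0, 2, 1, 3, 4,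 5, 6, 7, 2, 3, 0, 2, 1, 3, 4, 5, 6, 3, 2, 1, 3, 4, 5, 3, 2, 1, 3, 4, 0, 2, 3, 1], [4, 5, 3, 4, 2, 3, 0, 2, 1, 3, 4, 5, 6, 7, 2, 3, 0, 2, 1, 3, 4, 5, 6, 3, 2, 1, 3, 4, 5, 3, 2, 1, 3, 4, 0, 2, 3, 1], [7, 6, 5, 3, 4, 2, 3, 0, 2, 1, 3, 4, 5, 6, 7, 2, 3, 0, 2, 1, 3, 4, 5, 6, 3, 2, 1, 3, 4, 5, 3, 2, 1, 3, 4, 0, 2, 3, 1], [6, 4, 5, 3, 4, 2, 3, 0, 2, 1, 3, 4, 5, 6, 7, 2, 3, 0, 2, 1, 3, 4, 5, 6, 3, 2, 1, 3, 4, 5, 3, 2, 1, 3, 4, 0, 2, 3, 1], [7, 6, 4, 5, 3, 4, 2, 3, 0, 2, 1, 3, 4, 5, 6, 7, 2, 3, 0, 2, 1, 3, 4, 5, 6, 3, 2, 1, 3, 4, 5, 3, 2, 1, 3, 4, 0, 2, 3, 1], [5, 6, 4, 5, 3, 4, 2, 3, 0, 2, 1, 3, 4, 5, 6, 7, 2, 3, 0, 2, 1, 3, 4, 5, 6, 3, 2, 1, 3, 4, 5, 3, 2, 1, 3, 4, 0, 2, 3, 1], [7, 5, 6, 4, 5, 3, 4, 2, 3, 0, 2, 1, 3, 4, 5, 6, 7, 2, 3, 0,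 2, 1, 3, 4, 5, 6, 3, 2, 1, 3, 4, 5, 3, 2, 1, 3, 4, 0, 2, 3, 1], [2, 3, 4, 5, 6, 0, 2, 3, 4, 5, 1, 3, 4, 2, 3, 0, 2, 1, 3, 4, 5, 6, 7, 4, 5, 3, 4, 2, 3, 0, 2, 1, 3, 4, 5, 6, 2, 3, 0, 2, 1, 3, 4, 5, 3, 2, 1, 3, 4, 0, 2, 3, 1], [6, 7, 5, 6, 4, 5, 3, 4, 2, 3, 0, 2, 1, 3, 4, 5, 6, 7, 2, 3, 0, 2, 1, 3, 4, 5, 6, 3, 2, 1, 3, 4, 5, 3, 2, 1, 3, 4, 0, 2, 3, 1], [7, 2, 3, 4, 5, 6, 0, 2, 3, 4, 5, 1, 3, 4, 2, 3, 0, 2, 1, 3, 4, 5, 6, 7, 4, 5, 3, 4, 2, 3, 0, 2, 1, 3, 4, 5, 6, 2, 3, 0, 2, 1, 3, 4, 5, 3, 2, 1, 3, 4, 0, 2, 3, 1], [6, 7, 2, 3, 4, 5, 6, 0, 2, 3, 4, 5, 1, 3, 4, 2, 3, 0, 2, 1, 3, 4, 5, 6, 7, 4, 5, 3, 4, 2, 3, 0, 2, 1, 3, 4, 5, 6, 2, 3, 0, 2, 1, 3, 4, 5, 3, 2, 1, 3, 4, 0, 2, 3, 1], [5, 6, 7, 2, 3, 4, 5, 6, 0, 2, 3, 4, 5, 1, 3, 4, 2, 3,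 0, 2, 1, 3, 4, 5, 6, 7, 4, 5, 3, 4, 2, 3, 0, 2, 1, 3, 4, 5, 6, 2, 3, 0, 2, 1, 3, 4, 5, 3, 2, 1, 3, 4, 0, 2, 3, 1], [4, 5, 6, 7, 2, 3, 4, 5, 6, 0, 2, 3, 4, 5, 1, 3, 4, 2, 3, 0, 2, 1, 3, 4, 5, 6, 7, 4, 5, 3, 4, 2, 3, 0, 2, 1, 3, 4, 5, 6, 2, 3, 0, 2, 1, 3, 4, 5, 3, 2, 1, 3, 4, 0, 2, 3, 1], [3, 4, 5, 6, 7, 2, 3, 4, 5, 6, 0, 2, 3, 4, 5, 1, 3, 4, 2, 3, 0, 2, 1, 3, 4, 5, 6, 7, 4, 5, 3, 4, 2, 3, 0, 2, 1, 3, 4, 5, 6, 2, 3, 0, 2, 1, 3, 4, 5, 3, 2, 1, 3, 4, 0, 2, 3, 1], [1, 3, 4, 5, 6, 7, 2, 3, 4, 5, 6, 0, 2, 3, 4, 5, 1, 3, 4, 2, 3, 0, 2, 1, 3, 4, 5, 6, 7, 4, 5, 3, 4, 2, 3, 0, 2, 1, 3, 4, 5, 6, 2, 3, 0, 2, 1, 3, 4, 5, 3, 2, 1, 3, 4, 0, 2, 3, 1]] : List W)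
  expr := [[], [6], [5, 6], [0, 5, 6], [1, 0, 5, 6], [2, 1, 0, 5, 6], [3, 1, 0, 5, 6], [3, 2, 1, 0, 5, 6], [4, 2, 1, 0, 5, 6], [1, 3, 2, 1, 0, 5, 6], [4, 3, 2, 1, 0, 5, 6], [0, 1, 3, 2, 1, 0, 5, 6], [4, 1, 3, 2, 1, 0, 5, 6], [4, 0, 1, 3, 2, 1, 0, 5, 6], [5, 0, 1, 3, 2, 1, 0, 5, 6], [2, 4, 1, 3, 2, 1, 0, 5, 6], [2, 4, 0, 1, 3, 2, 1, 0, 5, 6], [5, 4, 0, 1, 3, 2, 1, 0, 5, 6], [6, 5, 0, 1, 3, 2, 1, 0, 5, 6], [1, 2, 4, 0, 1, 3, 2, 1, 0, 5, 6], [5, 2, 4, 0, 1, 3, 2, 1, 0, 5, 6], [6, 5, 4, 0, 1, 3, 2, 1, 0, 5, 6], [3, 1, 2, 4, 0, 1, 3, 2, 1, 0, 5, 6], [5, 1, 2, 4, 0, 1, 3, 2, 1, 0, 5, 6], [6, 5, 2, 4, 0, 1, 3, 2, 1, 0, 5, 6], [5, 3, 1, 2, 4, 0, 1, 3, 2, 1, 0, 5, 6], [0, 5, 1, 2, 4, 0, 1, 3, 2, 1, 0, 5, 6], [6, 5, 1, 2, 4, 0, 1, 3, 2, 1,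 0, 5, 6], [0, 5, 3, 1, 2, 4, 0, 1, 3, 2, 1, 0, 5, 6], [6, 5, 3, 1, 2, 4, 0, 1, 3, 2, 1, 0, 5, 6], [6, 0, 5, 1, 2, 4, 0, 1, 3, 2, 1, 0, 5, 6], [1, 0, 5, 3, 1, 2, 4, 0, 1, 3, 2, 1, 0, 5, 6], [6, 0, 5, 3, 1, 2, 4, 0, 1, 3, 2, 1, 0, 5, 6], [5, 6, 0, 5, 1, 2, 4, 0, 1, 3, 2, 1, 0, 5, 6], [2, 1, 0, 5, 3, 1, 2, 4, 0, 1, 3, 2, 1, 0, 5, 6], [6, 1, 0, 5, 3, 1, 2, 4, 0, 1, 3, 2, 1, 0, 5, 6], [5, 6, 0, 5, 3, 1, 2, 4, 0, 1, 3, 2, 1, 0, 5, 6], [4, 2, 1, 0, 5, 3, 1, 2, 4, 0, 1, 3, 2, 1, 0, 5, 6], [6, 2, 1, 0, 5, 3, 1, 2, 4, 0, 1, 3, 2, 1, 0, 5, 6], [5, 6, 1, 0, 5, 3, 1, 2, 4, 0, 1, 3, 2, 1, 0, 5, 6], [6, 4, 2, 1, 0, 5, 3, 1, 2, 4, 0, 1, 3, 2, 1, 0, 5, 6], [5, 6, 2, 1, 0, 5, 3, 1, 2, 4, 0, 1, 3, 2, 1, 0, 5, 6], [0, 5, 6, 1, 0, 5, 3, 1, 2, 4, 0, 1,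 3, 2, 1, 0, 5, 6], [5, 6, 4, 2, 1, 0, 5, 3, 1, 2, 4, 0, 1, 3, 2, 1, 0, 5, 6], [0, 5, 6, 2, 1, 0, 5, 3, 1, 2, 4, 0, 1, 3, 2, 1, 0, 5, 6], [0, 5, 6, 4, 2, 1, 0, 5, 3, 1, 2, 4, 0, 1, 3, 2, 1, 0, 5, 6], [1, 0, 5, 6, 2, 1, 0, 5, 3, 1, 2, 4, 0, 1, 3, 2, 1, 0, 5, 6], [1, 0, 5, 6, 4, 2, 1, 0, 5, 3, 1, 2, 4, 0, 1, 3, 2, 1, 0, 5, 6], [3, 1, 0, 5, 6, 2, 1, 0, 5, 3, 1, 2, 4, 0, 1, 3, 2, 1, 0, 5, 6], [2, 1, 0, 5, 6, 4, 2, 1, 0, 5, 3, 1, 2, 4, 0, 1, 3, 2, 1, 0, 5, 6], [3, 1, 0, 5, 6, 4, 2, 1, 0, 5, 3, 1, 2, 4, 0, 1, 3, 2, 1, 0, 5, 6], [3, 2, 1, 0, 5, 6, 4, 2, 1, 0, 5, 3, 1, 2, 4, 0, 1, 3, 2, 1, 0, 5, 6], [1, 3, 2, 1, 0, 5, 6, 4, 2, 1, 0, 5, 3, 1, 2, 4, 0, 1, 3, 2, 1, 0, 5, 6], [0, 1, 3, 2, 1, 0, 5, 6, 4, 2, 1, 0, 5, 3, 1, 2, 4, 0, 1, 3, 2, 1,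 0, 5, 6], [5, 0, 1, 3, 2, 1, 0, 5, 6, 4, 2, 1, 0, 5, 3, 1, 2, 4, 0, 1, 3, 2, 1, 0, 5, 6], [6, 5, 0, 1, 3, 2, 1, 0, 5, 6, 4, 2, 1, 0, 5, 3, 1, 2, 4, 0, 1, 3, 2, 1, 0, 5, 6]]
  next := [[56, 57, 58, 59, 60, 61, 1], [56, 57, 58, 59, 60, 2, 0], [3, 57, 58, 59, 60, 1, 61], [2, 4, 58, 59, 60, 56, 61], [57, 3, 5, 6, 60, 56, 61], [57, 58, 4, 7, 8, 56, 61], [57, 59, 7, 4, 60, 56, 61], [57, 9, 6, 5, 10, 56, 61], [57, 58, 60, 10, 5, 56, 61], [11, 7, 59, 58, 12, 56, 61], [57, 12, 60, 8, 7, 56, 61], [9, 57, 59, 58, 13, 14, 61], [13, 10, 15, 58, 9, 56, 61], [12, 57, 16, 58, 11, 17, 61], [56, 57, 59, 58, 17, 11, 18], [16, 60, 12, 58, 59, 56, 61], [15, 19, 13, 58, 59, 20, 61], [56, 57, 20, 58, 14, 13, 21], [56, 57, 59, 58, 21, 61, 14], [60, 16,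 57, 22, 59, 23, 61], [56, 23, 17, 58, 59, 16, 24], [56, 57, 24, 58, 18, 61, 17], [60, 58, 57, 19, 59, 25, 61], [26, 20, 57, 25, 59, 19, 27], [56, 27, 21, 58, 59, 61, 20], [28, 58, 57, 23, 59, 22, 29], [23, 56, 57, 28, 59, 60, 30], [30, 24, 57, 29, 59, 61, 23], [25, 31, 57, 26, 59, 60, 32], [32, 58, 57, 27, 59, 61, 25], [27, 56, 57, 32, 59, 33, 26], [58, 28, 34, 56, 59, 60, 35], [29, 35, 57, 30, 59, 36, 28], [61, 56, 57, 36, 59, 30, 60], [58, 57, 31, 56, 37, 60, 38], [58, 32, 38, 56, 59, 39, 31], [61, 39, 57, 33, 59, 32, 60], [58, 57, 59, 56, 34, 60, 40], [58, 57, 35, 56, 40, 41, 34], [42, 36, 41, 56, 59, 35, 60], [58, 57, 59, 56, 38, 43, 37], [44, 57, 39, 56, 43, 38, 60], [39, 61, 44, 56, 59, 58, 60], [45, 57, 59, 56, 41, 40, 60],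 [41, 46, 42, 56, 45, 58, 60], [43, 47, 59, 56, 44, 58, 60], [57, 44, 61, 48, 47, 58, 60], [57, 45, 49, 50, 46, 58, 60], [57, 56, 61, 46, 50, 58, 60], [57, 59, 47, 51, 61, 58, 60], [57, 56, 51, 47, 48, 58, 60], [57, 52, 50, 49, 61, 58, 60], [53, 51, 56, 59, 61, 58, 60], [52, 57, 56, 59, 61, 54, 60], [58, 57, 56, 59, 61, 53, 55], [58, 57, 56, 59, 61, 60, 54]]

set_option maxHeartbeats 0 in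
set_option maxRecDepth 100000 in
/-- Level 7 of class 2. -/
def lev2_7 : ChainLevel chevE8 where
  P := [120, 121, 122, 123, 124, 125, 126, 127, 128, 129, 130, 131, 132, 133, 134, 141, 142, 143, 144, 145, 146, 162, 184, 185, 186, 187, 188, 189, 190, 191, 192, 193, 194, 195, 196, 197, 198, 199, 200, 201, 202, 203, 204, 205, 206, 207, 208, 209, 210, 211, 212, 213, 214, 215, 216, 217, 218, 232, 234, 235, 236, 237, 238, 239]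
  reps := ([[], [0]] : List W)
  expr := [[], [7]]
  next := [[2, 3, 4, 5, 6, 7, 8, 1], [2, 3, 4, 5, 6, 7, 8, 0]]

set_option maxHeartbeats 0 in
set_option maxRecDepth 100000 in
/-- The tables of class 2. -/
def tab2 : InvTab chevE8 where
  e := [1, 0, 0, 0, 0, 0, 0, 0]
  gens := gens2
  trans := trans2
  edges := [[127, 126, 1, 125, 120, 121, 122, 124], [2, 126, 0, 3, 120, 121, 122, 124], [1, 126, 127, 4, 120, 121, 122, 124], [4, 5, 125, 1, 6, 121, 122, 124], [3, 7, 8, 2, 9, 121, 122, 124], [7, 3, 125, 126, 10, 121, 122, 124], [9, 10, 125, 120, 3, 11, 122, 124], [5, 4, 12, 126, 13, 121, 122, 124], [125, 12, 4, 127, 14, 121, 122, 124], [6, 13, 14, 120, 4, 15, 122, 124], [13, 6, 125, 16, 5, 17, 122, 124], [15, 17, 125, 120, 121, 6,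 18, 124], [125, 8, 7, 19, 20, 121, 122, 124], [10, 9, 20, 21, 7, 22, 122, 124], [125, 20, 9, 23, 8, 24, 122, 124], [11, 22, 24, 120, 121, 9, 25, 124], [21, 120, 26, 10, 126, 27, 122, 124], [22, 11, 125, 27, 121, 10, 28, 124], [25, 28, 125, 120, 121, 122, 11, 29], [125, 127, 126, 12, 123, 121, 122, 124], [125, 14, 13, 123, 12, 30, 122, 124], [16, 120, 123, 13, 126, 31, 122, 124], [17, 15, 30, 31, 121, 13, 32, 124], [125, 123, 120, 14, 127, 33, 122, 124], [125, 30, 15, 33, 121, 14, 34, 124], [18, 32, 34, 120, 121, 122, 15, 35], [123, 120, 16, 125, 126, 36, 122, 124], [31, 120, 36, 17, 37, 16, 38, 124], [32, 18, 125, 38, 121, 122, 17, 39], [35, 39, 125, 120, 121, 122, 124, 18], [125, 24, 22, 123, 121, 20, 40, 124], [27, 120, 123, 22,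 41, 21, 42, 124], [28, 25, 40, 42, 121, 122, 22, 43], [125, 123, 120, 24, 44, 23, 45, 124], [125, 40, 25, 45, 121, 122, 24, 46], [29, 43, 46, 120, 121, 122, 124, 25], [123, 120, 27, 125, 47, 26, 48, 124], [41, 120, 47, 121, 27, 126, 49, 124], [42, 120, 48, 28, 49, 122, 27, 50], [43, 29, 125, 50, 121, 122, 124, 28], [125, 34, 32, 123, 121, 122, 30, 51], [37, 120, 123, 121, 31, 126, 52, 124], [38, 120, 123, 32, 52, 122, 31, 53], [39, 35, 51, 53, 121, 122, 124, 32], [125, 123, 120, 121, 33, 127, 54, 124], [125, 123, 120, 34, 54, 122, 33, 55], [125, 51, 35, 55, 121, 122, 124, 34], [123, 120, 37, 56, 36, 126, 57, 124], [123, 120, 38, 125, 57, 122, 36, 58], [52, 120, 57, 121, 38, 59, 37, 60], [53, 120, 58, 39, 60, 122, 124, 38], [125,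 46, 43, 123, 121, 122, 124, 40], [49, 120, 123, 121, 42, 61, 41, 62], [50, 120, 123, 43, 62, 122, 124, 42], [125, 123, 120, 121, 45, 63, 44, 64], [125, 123, 120, 46, 64, 122, 124, 45], [123, 65, 121, 47, 125, 126, 66, 124], [123, 120, 49, 66, 48, 67, 47, 68], [123, 120, 50, 125, 68, 122, 124, 48], [61, 120, 67, 121, 122, 49, 126, 69], [62, 120, 68, 121, 50, 69, 124, 49], [59, 120, 123, 121, 122, 52, 126, 70], [60, 120, 123, 121, 53, 70, 124, 52], [125, 123, 120, 121, 122, 54, 127, 71], [125, 123, 120, 121, 55, 71, 124, 54], [123, 56, 121, 120, 125, 126, 72, 124], [123, 72, 121, 57, 125, 73, 56, 74], [123, 120, 59, 73, 122, 57, 126, 75], [123, 120, 60, 74, 58, 75, 124, 57], [70, 120, 75, 121, 122, 60, 76, 59], [69, 120, 123, 121,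 122, 62, 77, 61], [125, 123, 120, 121, 122, 64, 78, 63], [123, 66, 121, 120, 125, 79, 65, 80], [123, 79, 121, 67, 81, 66, 126, 82], [123, 80, 121, 68, 125, 82, 124, 66], [123, 120, 69, 82, 122, 68, 83, 67], [77, 120, 83, 121, 122, 124, 69, 126], [76, 120, 123, 121, 122, 124, 70, 126], [125, 123, 120, 121, 122, 124, 71, 127], [123, 73, 121, 120, 84, 72, 126, 85], [123, 74, 121, 120, 125, 85, 124, 72], [123, 84, 121, 122, 73, 125, 126, 86], [123, 85, 121, 75, 86, 74, 87, 73], [123, 120, 76, 87, 122, 124, 75, 126], [123, 81, 121, 88, 79, 125, 126, 89], [123, 82, 121, 120, 89, 80, 90, 79], [123, 89, 121, 122, 82, 125, 91, 81], [123, 90, 121, 83, 91, 124, 82, 126], [123, 122, 92, 84, 120, 125, 126, 93], [123, 86, 121, 93, 85, 125, 94,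 84], [123, 87, 121, 120, 94, 124, 85, 126], [123, 94, 121, 122, 87, 95, 86, 126], [96, 122, 88, 121, 120, 125, 126, 97], [123, 122, 97, 89, 120, 125, 98, 88], [123, 91, 121, 98, 90, 99, 89, 126], [123, 99, 121, 122, 124, 91, 125, 126], [92, 122, 123, 121, 120, 125, 126, 100], [100, 122, 93, 121, 120, 125, 101, 92], [123, 122, 101, 94, 120, 102, 93, 126], [123, 95, 121, 102, 124, 94, 125, 126], [97, 122, 123, 121, 120, 125, 103, 96], [103, 122, 98, 121, 120, 104, 97, 126], [123, 122, 104, 99, 105, 98, 125, 126], [101, 122, 123, 121, 120, 106, 100, 126], [106, 122, 102, 121, 107, 101, 125, 126], [123, 122, 107, 124, 102, 120, 125, 126], [104, 122, 123, 121, 108, 103, 125, 126], [108, 122, 105, 109, 104, 120, 125, 126], [107, 122, 123,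 110, 106, 120, 125, 126], [110, 111, 124, 107, 121, 120, 125, 126], [109, 112, 113, 108, 121, 120, 125, 126], [112, 109, 124, 122, 121, 120, 125, 126], [111, 110, 114, 122, 121, 120, 125, 126], [124, 114, 110, 123, 121, 120, 125, 126], [124, 113, 112, 115, 121, 120, 125, 126], [124, 123, 122, 114, 116, 120, 125, 126], [124, 123, 122, 121, 115, 117, 125, 126], [124, 123, 122, 121, 120, 116, 118, 126], [124, 123, 122, 121, 120, 125, 117, 119], [124, 123, 122, 121, 120, 125, 126, 118]]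
  levels := [lev2_0, lev2_1, lev2_2, lev2_3, lev2_4, lev2_5, lev2_6, lev2_7]

/-- The coroots of the generators of class 2. -/
def cor2 : List (List ℤ) := [[0, 0, 0, 0, 1, 0, 0, 0], [0, 0, 0, 0, 0, 1, 0, 0], [0, 0, 0, 0, 0, 0, 1, 0], [1, 1, 2, 2, 1, 0, 0, 0], [0, 0, 0, 0, 0, 0, 0, 1], [0, 0, 0, 1, 0, 0, 0, 0], [0, 1, 0, 0, 0, 0, 0, 0], [1, 0, 0, 0, 0, 0, 0, 0]]

/-- Twice the inverse of `cor2`. -/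
def z2 : List (List ℤ) := [[0, 0, 0, 0, 0, 0, 0, 2], [0, 0, 0, 0, 0, 0, 2, 0], [-1, 0, 0, 1, 0, -2, -1, -1], [0, 0, 0, 0, 0, 2, 0, 0], [2, 0, 0, 0, 0, 0, 0, 0], [0, 2, 0, 0, 0, 0, 0, 0], [0, 0, 2, 0, 0, 0, 0, 0], [0, 0, 0, 0, 2, 0, 0, 0]]

/-- The exponents of the length polynomial of class 2. -/
def exps2 : List (List ℕ) := [[0, 1], [0, 1, 2], [0, 1, 2, 3], [0, 1, 2, 3, 3, 4, 5, 6], [0, 1, 2, 3, 4, 4, 5, 6, 7, 8], [0, 1, 2, 3, 4, 4, 5, 5, 6, 6, 7, 7, 8, 8, 8, 9, 9, 10, 10, 11, 11, 12, 12, 13, 14, 15, 16], [0, 1, 2, 3, 4, 5, 5, 6, 6, 7, 7, 8, 8, 9, 9, 9, 10, 10, 10, 11, 11, 11, 12, 12, 12, 13, 13, 13, 14, 14, 14, 15, 15, 15, 16, 16, 16, 17, 17, 17, 18, 18, 18, 19, 19, 20, 20, 21, 21, 22, 22, 23, 24, 25, 26, 27], [0, 1]]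

set_option maxHeartbeats 0 in
set_option maxRecDepth 100000 in
/-- The conjugating words. -/
def cov : List (Bool × W) := [(false, []), (true, []), (true, [3, 2, 1, 3, 0, 2]), (false, [2, 0]), (true, [0, 2]), (true, [2]), (false, []), (false, [0]), (true, [2, 3, 0, 2]), (false, [1, 3, 2, 0]), (true, [2, 1, 3, 0, 2]), (false, [3, 2, 0]), (true, [3, 0, 2]), (true, [3, 2]), (true, [1, 3, 0, 2]), (true, [1, 3, 2]), (true, [3, 4, 2, 3, 0, 2]), (false, [3, 4, 1, 3, 2, 0]), (false, [5, 4, 3, 2, 1, 3, 4, 5, 0, 2, 3, 4, 1, 3, 2, 0]), (true, [2, 3, 4, 1, 3, 2]), (false, [0, 2, 3, 4, 1, 3, 2, 0]), (false, [2, 3, 4, 1, 3, 2, 0]), (true, [3, 4, 1, 3, 0, 2]), (true, [3, 4, 1, 3, 2]), (true, [4, 2, 3, 0, 2]), (false, [4, 1, 3, 2, 0]), (true, [4,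 2, 1, 3, 0, 2]), (false, [4, 3, 2, 0]), (true, [4, 3, 0, 2]), (true, [4, 3, 2]), (true, [4, 1, 3, 0, 2]), (true, [4, 1, 3, 2]), (true, [4, 5, 3, 4, 2, 3, 0, 2]), (false, [4, 5, 3, 4, 1, 3, 2, 0]), (false, [3, 2, 1, 3, 4, 5, 0, 2, 3, 4, 1, 3, 2, 0]), (true, [4, 5, 2, 3, 4, 1, 3, 2]), (false, [4, 5, 0, 2, 3, 4, 1, 3, 2, 0]), (false, [4, 5, 2, 3, 4, 1, 3, 2, 0]), (true, [4, 5, 3, 4, 1, 3, 0, 2]), (true, [4, 5, 3, 4, 1, 3, 2]), (false, [2, 3, 4, 5, 0, 2, 3, 4, 1, 3, 2, 0]), (true, [1, 3, 4, 5, 2, 3, 4, 1, 3, 2]), (false, [2, 1, 3, 4, 5, 0, 2, 3, 4, 1, 3, 2, 0]), (true, [3, 4, 5, 2, 3, 4, 1, 3, 2]), (false, [3, 4, 5, 0, 2, 3, 4, 1, 3, 2, 0]), (false, [3, 4, 5, 2, 3, 4, 1, 3, 2, 0]), (false, [1, 3, 4, 5, 0, 2, 3, 4, 1, 3, 2, 0]), (false,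 [1, 3, 4, 5, 2, 3, 4, 1, 3, 2, 0]), (true, [5, 3, 4, 2, 3, 0, 2]), (false, [5, 3, 4, 1, 3, 2, 0]), (false, [4, 3, 2, 1, 3, 4, 5, 0, 2, 3, 4, 1, 3, 2, 0]), (true, [5, 2, 3, 4, 1, 3, 2]), (false, [5, 0, 2, 3, 4, 1, 3, 2, 0]), (false, [5, 2, 3, 4, 1, 3, 2, 0]), (true, [5, 3, 4, 1, 3, 0, 2]), (true, [5, 3, 4, 1, 3, 2]), (true, [5, 4, 2, 3, 0, 2]), (false, [5, 4, 1, 3, 2, 0]), (true, [5, 4, 2, 1, 3, 0, 2]), (false, [5, 4, 3, 2, 0]), (true, [5, 4, 3, 0, 2]), (true, [5, 4, 3, 2]), (true, [5, 4, 1, 3, 0, 2]), (true, [5, 4, 1, 3, 2]), (true, [5, 6, 4, 5, 3, 4, 2, 3, 0, 2]), (false, [5, 6, 4, 5, 3, 4, 1, 3, 2, 0]), (false, [5, 6, 3, 2, 1, 3, 4, 5, 0, 2, 3, 4, 1, 3, 2, 0]), (true, [5, 6, 4, 5, 2, 3, 4, 1, 3, 2]), (false, [5, 6, 4, 5, 0, 2,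 3, 4, 1, 3, 2, 0]), (false, [5, 6, 4, 5, 2, 3, 4, 1, 3, 2, 0]), (true, [5, 6, 4, 5, 3, 4, 1, 3, 0, 2]), (true, [5, 6, 4, 5, 3, 4, 1, 3, 2]), (false, [5, 6, 2, 3, 4, 5, 0, 2, 3, 4, 1, 3, 2, 0]), (true, [5, 6, 1, 3, 4, 5, 2, 3, 4, 1, 3, 2]), (false, [5, 6, 2, 1, 3, 4, 5, 0, 2, 3, 4, 1, 3, 2, 0]), (true, [5, 6, 3, 4, 5, 2, 3, 4, 1, 3, 2]), (false, [5, 6, 3, 4, 5, 0, 2, 3, 4, 1, 3, 2, 0]), (false, [5, 6, 3, 4, 5, 2, 3, 4, 1, 3, 2, 0]), (false, [5, 6, 1, 3, 4, 5, 0, 2, 3, 4, 1, 3, 2, 0]), (false, [5, 6, 1, 3, 4, 5, 2, 3, 4, 1, 3, 2, 0]), (false, [3, 4, 5, 6, 2, 3, 4, 5, 0, 2, 3, 4, 1, 3, 2, 0]), (true, [3, 4, 5, 6, 1, 3, 4, 5, 2, 3, 4, 1, 3, 2]), (true, [7, 6, 5, 4, 3, 2, 1, 3, 4, 5, 6, 7, 0, 2, 3, 4, 5, 6, 1, 3, 4, 5, 2, 3, 4, 1, 3,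 2]), (false, [2, 3, 4, 5, 6, 1, 3, 4, 5, 2, 3, 4, 1, 3, 2, 0]), (true, [0, 2, 3, 4, 5, 6, 1, 3, 4, 5, 2, 3, 4, 1, 3, 2]), (true, [2, 3, 4, 5, 6, 1, 3, 4, 5, 2, 3, 4, 1, 3, 2]), (false, [3, 4, 5, 6, 1, 3, 4, 5, 0, 2, 3, 4, 1, 3, 2, 0]), (false, [3, 4, 5, 6, 1, 3, 4, 5, 2, 3, 4, 1, 3, 2, 0]), (false, [4, 5, 6, 2, 3, 4, 5, 0, 2, 3, 4, 1, 3, 2, 0]), (true, [4, 5, 6, 1, 3, 4, 5, 2, 3, 4, 1, 3, 2]), (false, [4, 5, 6, 2, 1, 3, 4, 5, 0, 2, 3, 4, 1, 3, 2, 0]), (true, [4, 5, 6, 3, 4, 5, 2, 3, 4, 1, 3, 2]), (false, [4, 5, 6, 3, 4, 5, 0, 2, 3, 4, 1, 3, 2, 0]), (false, [4, 5, 6, 3, 4, 5, 2, 3, 4, 1, 3, 2, 0]), (false, [4, 5, 6, 1, 3, 4, 5, 0, 2, 3, 4, 1, 3, 2, 0]), (false, [4, 5, 6, 1, 3, 4, 5, 2, 3, 4, 1, 3, 2, 0]), (true, [6, 4, 5, 3, 4, 2,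 3, 0, 2]), (false, [6, 4, 5, 3, 4, 1, 3, 2, 0]), (false, [6, 3, 2, 1, 3, 4, 5, 0, 2, 3, 4, 1, 3, 2, 0]), (true, [6, 4, 5, 2, 3, 4, 1, 3, 2]), (false, [6, 4, 5, 0, 2, 3, 4, 1, 3, 2, 0]), (false, [6, 4, 5, 2, 3, 4, 1, 3, 2, 0]), (true, [6, 4, 5, 3, 4, 1, 3, 0, 2]), (true, [6, 4, 5, 3, 4, 1, 3, 2]), (false, [6, 2, 3, 4, 5, 0, 2, 3, 4, 1, 3, 2, 0]), (true, [6, 1, 3, 4, 5, 2, 3, 4, 1, 3, 2]), (false, [6, 2, 1, 3, 4, 5, 0, 2, 3, 4, 1, 3, 2, 0]), (true, [6, 3, 4, 5, 2, 3, 4, 1, 3, 2]), (false, [6, 3, 4, 5, 0, 2, 3, 4, 1, 3, 2, 0]), (false, [6, 3, 4, 5, 2, 3, 4, 1, 3, 2, 0]), (false, [6, 1, 3, 4, 5, 0, 2, 3, 4, 1, 3, 2, 0]), (false, [6, 1, 3, 4, 5, 2, 3, 4, 1, 3, 2, 0]), (true, [6, 5, 3, 4, 2, 3, 0, 2]), (false, [6, 5, 3, 4, 1, 3, 2, 0]),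 (false, [6, 4, 3, 2, 1, 3, 4, 5, 0, 2, 3, 4, 1, 3, 2, 0]), (true, [6, 5, 2, 3, 4, 1, 3, 2]), (false, [6, 5, 0, 2, 3, 4, 1, 3, 2, 0]), (false, [6, 5, 2, 3, 4, 1, 3, 2, 0]), (true, [6, 5, 3, 4, 1, 3, 0, 2]), (true, [6, 5, 3, 4, 1, 3, 2]), (true, [6, 5, 4, 2, 3, 0, 2]), (false, [6, 5, 4, 1, 3, 2, 0]), (true, [6, 5, 4, 2, 1, 3, 0, 2]), (false, [6, 5, 4, 3, 2, 0]), (true, [6, 5, 4, 3, 0, 2]), (true, [6, 5, 4, 3, 2]), (true, [6, 5, 4, 1, 3, 0, 2]), (true, [6, 5, 4, 1, 3, 2]), (true, [6, 7, 5, 6, 4, 5, 3, 4, 2, 3, 0, 2]), (false, [6, 7, 5, 6, 4, 5, 3, 4, 1, 3, 2, 0]), (false, [6, 7, 5, 6, 3, 2, 1, 3, 4, 5, 0, 2, 3, 4, 1, 3, 2, 0]), (true, [6, 7, 5, 6, 4, 5, 2, 3, 4, 1, 3, 2]), (false, [6, 7, 5, 6, 4, 5, 0, 2, 3, 4, 1, 3, 2, 0]), (false,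 [6, 7, 5, 6, 4, 5, 2, 3, 4, 1, 3, 2, 0]), (true, [6, 7, 5, 6, 4, 5, 3, 4, 1, 3, 0, 2]), (true, [6, 7, 5, 6, 4, 5, 3, 4, 1, 3, 2]), (false, [6, 7, 5, 6, 2, 3, 4, 5, 0, 2, 3, 4, 1, 3, 2, 0]), (true, [6, 7, 5, 6, 1, 3, 4, 5, 2, 3, 4, 1, 3, 2]), (false, [6, 7, 5, 6, 2, 1, 3, 4, 5, 0, 2, 3, 4, 1, 3, 2, 0]), (true, [6, 7, 5, 6, 3, 4, 5, 2, 3, 4, 1, 3, 2]), (false, [6, 7, 5, 6, 3, 4, 5, 0, 2, 3, 4, 1, 3, 2, 0]), (false, [6, 7, 5, 6, 3, 4, 5, 2, 3, 4, 1, 3, 2, 0]), (false, [6, 7, 5, 6, 1, 3, 4, 5, 0, 2, 3, 4, 1, 3, 2, 0]), (false, [6, 7, 5, 6, 1, 3, 4, 5, 2, 3, 4, 1, 3, 2, 0]), (false, [6, 7, 3, 4, 5, 6, 2, 3, 4, 5, 0, 2, 3, 4, 1, 3, 2, 0]), (true, [6, 7, 3, 4, 5, 6, 1, 3, 4, 5, 2, 3, 4, 1, 3, 2]), (true, [5, 4, 3, 2, 1, 3, 4, 5, 6, 7, 0,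 2, 3, 4, 5, 6, 1, 3, 4, 5, 2, 3, 4, 1, 3, 2]), (false, [6, 7, 2, 3, 4, 5, 6, 1, 3, 4, 5, 2, 3, 4, 1, 3, 2, 0]), (true, [6, 7, 0, 2, 3, 4, 5, 6, 1, 3, 4, 5, 2, 3, 4, 1, 3, 2]), (true, [6, 7, 2, 3, 4, 5, 6, 1, 3, 4, 5, 2, 3, 4, 1, 3, 2]), (false, [6, 7, 3, 4, 5, 6, 1, 3, 4, 5, 0, 2, 3, 4, 1, 3, 2, 0]), (false, [6, 7, 3, 4, 5, 6, 1, 3, 4, 5, 2, 3, 4, 1, 3, 2, 0]), (false, [6, 7, 4, 5, 6, 2, 3, 4, 5, 0, 2, 3, 4, 1, 3, 2, 0]), (true, [6, 7, 4, 5, 6, 1, 3, 4, 5, 2, 3, 4, 1, 3, 2]), (false, [6, 7, 4, 5, 6, 2, 1, 3, 4, 5, 0, 2, 3, 4, 1, 3, 2, 0]), (true, [6, 7, 4, 5, 6, 3, 4, 5, 2, 3, 4, 1, 3, 2]), (false, [6, 7, 4, 5, 6, 3, 4, 5, 0, 2, 3, 4, 1, 3, 2, 0]), (false, [6, 7, 4, 5, 6, 3, 4, 5, 2, 3, 4, 1, 3, 2, 0]), (false, [6, 7, 4, 5, 6, 1,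 3, 4, 5, 0, 2, 3, 4, 1, 3, 2, 0]), (false, [6, 7, 4, 5, 6, 1, 3, 4, 5, 2, 3, 4, 1, 3, 2, 0]), (false, [4, 5, 6, 7, 3, 4, 5, 6, 2, 3, 4, 5, 0, 2, 3, 4, 1, 3, 2, 0]), (true, [4, 5, 6, 7, 3, 4, 5, 6, 1, 3, 4, 5, 2, 3, 4, 1, 3, 2]), (true, [3, 2, 1, 3, 4, 5, 6, 7, 0, 2, 3, 4, 5, 6, 1, 3, 4, 5, 2, 3, 4, 1, 3, 2]), (false, [4, 5, 6, 7, 2, 3, 4, 5, 6, 1, 3, 4, 5, 2, 3, 4, 1, 3, 2, 0]), (true, [4, 5, 6, 7, 0, 2, 3, 4, 5, 6, 1, 3, 4, 5, 2, 3, 4, 1, 3, 2]), (true, [4, 5, 6, 7, 2, 3, 4, 5, 6, 1, 3, 4, 5, 2, 3, 4, 1, 3, 2]), (false, [4, 5, 6, 7, 3, 4, 5, 6, 1, 3, 4, 5, 0, 2, 3, 4, 1, 3, 2, 0]), (false, [4, 5, 6, 7, 3, 4, 5, 6, 1, 3, 4, 5, 2, 3, 4, 1, 3, 2, 0]), (true, [2, 3, 4, 5, 6, 7, 0, 2, 3, 4, 5, 6, 1, 3, 4, 5, 2, 3, 4, 1, 3, 2]), (false,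 [1, 3, 4, 5, 6, 7, 2, 3, 4, 5, 6, 1, 3, 4, 5, 2, 3, 4, 1, 3, 2, 0]), (true, [2, 1, 3, 4, 5, 6, 7, 0, 2, 3, 4, 5, 6, 1, 3, 4, 5, 2, 3, 4, 1, 3, 2]), (false, [3, 4, 5, 6, 7, 2, 3, 4, 5, 6, 1, 3, 4, 5, 2, 3, 4, 1, 3, 2, 0]), (true, [3, 4, 5, 6, 7, 0, 2, 3, 4, 5, 6, 1, 3, 4, 5, 2, 3, 4, 1, 3, 2]), (true, [3, 4, 5, 6, 7, 2, 3, 4, 5, 6, 1, 3, 4, 5, 2, 3, 4, 1, 3, 2]), (true, [1, 3, 4, 5, 6, 7, 0, 2, 3, 4, 5, 6, 1, 3, 4, 5, 2, 3, 4, 1, 3, 2]), (true, [1, 3, 4, 5, 6, 7, 2, 3, 4, 5, 6, 1, 3, 4, 5, 2, 3, 4, 1, 3, 2]), (false, [5, 6, 7, 3, 4, 5, 6, 2, 3, 4, 5, 0, 2, 3, 4, 1, 3, 2, 0]), (true, [5, 6, 7, 3, 4, 5, 6, 1, 3, 4, 5, 2, 3, 4, 1, 3, 2]), (true, [4, 3, 2, 1, 3, 4, 5, 6, 7, 0, 2, 3, 4, 5, 6, 1, 3, 4, 5, 2, 3, 4, 1, 3, 2]), (false, [5,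 6, 7, 2, 3, 4, 5, 6, 1, 3, 4, 5, 2, 3, 4, 1, 3, 2, 0]), (true, [5, 6, 7, 0, 2, 3, 4, 5, 6, 1, 3, 4, 5, 2, 3, 4, 1, 3, 2]), (true, [5, 6, 7, 2, 3, 4, 5, 6, 1, 3, 4, 5, 2, 3, 4, 1, 3, 2]), (false, [5, 6, 7, 3, 4, 5, 6, 1, 3, 4, 5, 0, 2, 3, 4, 1, 3, 2, 0]), (false, [5, 6, 7, 3, 4, 5, 6, 1, 3, 4, 5, 2, 3, 4, 1, 3, 2, 0]), (false, [5, 6, 7, 4, 5, 6, 2, 3, 4, 5, 0, 2, 3, 4, 1, 3, 2, 0]), (true, [5, 6, 7, 4, 5, 6, 1, 3, 4, 5, 2, 3, 4, 1, 3, 2]), (false, [5, 6, 7, 4, 5, 6, 2, 1, 3, 4, 5, 0, 2, 3, 4, 1, 3, 2, 0]), (true, [5, 6, 7, 4, 5, 6, 3, 4, 5, 2, 3, 4, 1, 3, 2]), (false, [5, 6, 7, 4, 5, 6, 3, 4, 5, 0, 2, 3, 4, 1, 3, 2, 0]), (false, [5, 6, 7, 4, 5, 6, 3, 4, 5, 2, 3, 4, 1, 3, 2, 0]), (false, [5, 6, 7, 4, 5, 6, 1, 3, 4, 5, 0, 2, 3, 4, 1,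 3, 2, 0]), (false, [5, 6, 7, 4, 5, 6, 1, 3, 4, 5, 2, 3, 4, 1, 3, 2, 0]), (true, [7, 5, 6, 4, 5, 3, 4, 2, 3, 0, 2]), (false, [7, 5, 6, 4, 5, 3, 4, 1, 3, 2, 0]), (false, [7, 5, 6, 3, 2, 1, 3, 4, 5, 0, 2, 3, 4, 1, 3, 2, 0]), (true, [7, 5, 6, 4, 5, 2, 3, 4, 1, 3, 2]), (false, [7, 5, 6, 4, 5, 0, 2, 3, 4, 1, 3, 2, 0]), (false, [7, 5, 6, 4, 5, 2, 3, 4, 1, 3, 2, 0]), (true, [7, 5, 6, 4, 5, 3, 4, 1, 3, 0, 2]), (true, [7, 5, 6, 4, 5, 3, 4, 1, 3, 2]), (false, [7, 5, 6, 2, 3, 4, 5, 0, 2, 3, 4, 1, 3, 2, 0]), (true, [7, 5, 6, 1, 3, 4, 5, 2, 3, 4, 1, 3, 2]), (false, [7, 5, 6, 2, 1, 3, 4, 5, 0, 2, 3, 4, 1, 3, 2, 0]), (true, [7, 5, 6, 3, 4, 5, 2, 3, 4, 1, 3, 2]), (false, [7, 5, 6, 3, 4, 5, 0, 2, 3, 4, 1, 3, 2, 0]), (false, [7, 5, 6, 3, 4, 5, 2, 3,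 4, 1, 3, 2, 0]), (false, [7, 5, 6, 1, 3, 4, 5, 0, 2, 3, 4, 1, 3, 2, 0]), (false, [7, 5, 6, 1, 3, 4, 5, 2, 3, 4, 1, 3, 2, 0]), (false, [7, 3, 4, 5, 6, 2, 3, 4, 5, 0, 2, 3, 4, 1, 3, 2, 0]), (true, [7, 3, 4, 5, 6, 1, 3, 4, 5, 2, 3, 4, 1, 3, 2]), (true, [6, 5, 4, 3, 2, 1, 3, 4, 5, 6, 7, 0, 2, 3, 4, 5, 6, 1, 3, 4, 5, 2, 3, 4, 1, 3, 2]), (false, [7, 2, 3, 4, 5, 6, 1, 3, 4, 5, 2, 3, 4, 1, 3, 2, 0]), (true, [7, 0, 2, 3, 4, 5, 6, 1, 3, 4, 5, 2, 3, 4, 1, 3, 2]), (true, [7, 2, 3, 4, 5, 6, 1, 3, 4, 5, 2, 3, 4, 1, 3, 2]), (false, [7, 3, 4, 5, 6, 1, 3, 4, 5, 0, 2, 3, 4, 1, 3, 2, 0]), (false, [7, 3, 4, 5, 6, 1, 3, 4, 5, 2, 3, 4, 1, 3, 2, 0]), (false, [7, 4, 5, 6, 2, 3, 4, 5, 0, 2, 3, 4, 1, 3, 2, 0]), (true, [7, 4, 5, 6, 1, 3, 4, 5, 2, 3, 4, 1,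 3, 2]), (false, [7, 4, 5, 6, 2, 1, 3, 4, 5, 0, 2, 3, 4, 1, 3, 2, 0]), (true, [7, 4, 5, 6, 3, 4, 5, 2, 3, 4, 1, 3, 2]), (false, [7, 4, 5, 6, 3, 4, 5, 0, 2, 3, 4, 1, 3, 2, 0]), (false, [7, 4, 5, 6, 3, 4, 5, 2, 3, 4, 1, 3, 2, 0]), (false, [7, 4, 5, 6, 1, 3, 4, 5, 0, 2, 3, 4, 1, 3, 2, 0]), (false, [7, 4, 5, 6, 1, 3, 4, 5, 2, 3, 4, 1, 3, 2, 0]), (true, [7, 6, 4, 5, 3, 4, 2, 3, 0, 2]), (false, [7, 6, 4, 5, 3, 4, 1, 3, 2, 0]), (false, [7, 6, 3, 2, 1, 3, 4, 5, 0, 2, 3, 4, 1, 3, 2, 0]), (true, [7, 6, 4, 5, 2, 3, 4, 1, 3, 2]), (false, [7, 6, 4, 5, 0, 2, 3, 4, 1, 3, 2, 0]), (false, [7, 6, 4, 5, 2, 3, 4, 1, 3, 2, 0]), (true, [7, 6, 4, 5, 3, 4, 1, 3, 0, 2]), (true, [7, 6, 4, 5, 3, 4, 1, 3, 2]), (false, [7, 6, 2, 3, 4, 5, 0, 2, 3, 4, 1, 3, 2,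 0]), (true, [7, 6, 1, 3, 4, 5, 2, 3, 4, 1, 3, 2]), (false, [7, 6, 2, 1, 3, 4, 5, 0, 2, 3, 4, 1, 3, 2, 0]), (true, [7, 6, 3, 4, 5, 2, 3, 4, 1, 3, 2]), (false, [7, 6, 3, 4, 5, 0, 2, 3, 4, 1, 3, 2, 0]), (false, [7, 6, 3, 4, 5, 2, 3, 4, 1, 3, 2, 0]), (false, [7, 6, 1, 3, 4, 5, 0, 2, 3, 4, 1, 3, 2, 0]), (false, [7, 6, 1, 3, 4, 5, 2, 3, 4, 1, 3, 2, 0]), (true, [7, 6, 5, 3, 4, 2, 3, 0, 2]), (false, [7, 6, 5, 3, 4, 1, 3, 2, 0]), (false, [7, 6, 4, 3, 2, 1, 3, 4, 5, 0, 2, 3, 4, 1, 3, 2, 0]), (true, [7, 6, 5, 2, 3, 4, 1, 3, 2]), (false, [7, 6, 5, 0, 2, 3, 4, 1, 3, 2, 0]), (false, [7, 6, 5, 2, 3, 4, 1, 3, 2, 0]), (true, [7, 6, 5, 3, 4, 1, 3, 0, 2]), (true, [7, 6, 5, 3, 4, 1, 3, 2]), (true, [7, 6, 5, 4, 2, 3, 0, 2]), (false, [7, 6, 5, 4, 1, 3,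 2, 0]), (true, [7, 6, 5, 4, 2, 1, 3, 0, 2]), (false, [7, 6, 5, 4, 3, 2, 0]), (true, [7, 6, 5, 4, 3, 0, 2]), (true, [7, 6, 5, 4, 3, 2]), (true, [7, 6, 5, 4, 1, 3, 0, 2]), (true, [7, 6, 5, 4, 1, 3, 2])]

end InvE8

end Cfsg.Agent.Lang
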