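import Cfsg.Agent.Lang.InvClasses
import Cfsg.Agent.Chev.TablesF4

/-! Tables of the two classes of involutions of type F4 (owner: helper32; generated). -/

set_option autoImplicit false

namespace Cfsg.Agent.Lang

open Cfsg.Lie
open Cfsg.Agent.Chev (certF4)

namespace InvF4

/-- A word with the rank as a literal. -/
abbrev W := List (Fin 4)

/-- The inverse of the Cartan matrix. -/
def binv : List (List ℤ) := [[2, 3, 4, 2], [3, 6, 8, 4], [2, 4, 6, 3], [1, 2, 3, 2]]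

set_option maxHeartbeats 0 in
set_option maxRecDepth 100000 in
/-- The generators of class 1. -/
def gens1 : List (W × Fin 4) := [([1], 2), ([], 0), ([], 3), ([], 2)]

set_option maxHeartbeats 0 in
set_option maxRecDepth 100000 in
/-- The transversal of class 1. -/
def trans1 : List W := [[], [1], [0, 1]]

set_option maxHeartbeats 0 in
set_option maxRecDepth 100000 in
/-- Level 0 of class 1. -/
def lev1_0 : ChainLevel chevF4 where
  P := [30]
  reps := ([[], [1, 2, 1]] : List W)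
  expr := [[], [0]]
  next := [[1], [0]]

set_option maxHeartbeats 0 in
set_option maxRecDepth 100000 in
/-- Level 1 of class 1. -/
def lev1_1 : ChainLevel chevF4 where
  P := [30, 33, 37, 41]
  reps := ([[], [0], [1, 2, 1, 0], [0, 1, 2, 1, 0]] : List W)
  expr := [[], [1], [0, 1], [1, 0, 1]]
  next := [[4, 1], [2, 0], [1, 3], [4, 2]]

set_option maxHeartbeats 0 in
set_option maxRecDepth 100000 in
/-- Level 2 of class 1. -/
def lev1_2 : ChainLevel chevF4 where
  P := [24, 30, 31, 33, 37, 38, 41, 42, 45]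
  reps := ([[], [3], [1, 2, 3, 1], [0, 1, 2, 3, 1], [1, 2, 0, 1, 2, 3, 0, 1], [3, 1, 2, 0, 1, 2, 3, 0, 1]] : List W)
  expr := [[], [2], [0, 2], [1, 0, 2], [0, 1, 0, 2], [2, 0, 1, 0, 2]]
  next := [[6, 7, 1], [2, 7, 0], [1, 3, 6], [4, 2, 6], [3, 7, 5], [6, 7, 4]]

set_option maxHeartbeats 0 in
set_option maxRecDepth 100000 in
/-- Level 3 of class 1. -/
def lev1_3 : ChainLevel chevF4 where
  P := [24, 25, 26, 30, 31, 32, 33, 37, 38, 39, 41, 42, 43, 45, 46, 47]
  reps := ([[], [2], [3, 2], [1, 2, 3, 1, 2], [0, 1, 2, 3, 1, 2], [1, 2, 0, 1, 2, 3, 0, 1, 2], [3, 1, 2, 0, 1, 2, 3, 0, 1, 2], [2, 3, 1, 2, 0, 1, 2, 3, 0, 1, 2]] : List W)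
  expr := [[], [3], [2, 3], [0, 2, 3], [1, 0, 2, 3], [0, 1, 0, 2, 3], [2, 0, 1, 0, 2, 3], [3, 2, 0, 1, 0, 2, 3]]
  next := [[8, 9, 10, 1], [8, 9, 2, 0], [3, 9, 1, 10], [2, 4, 8, 10], [5, 3, 8, 10], [4, 9, 6, 10], [8, 9, 5, 7], [8, 9, 10, 6]]

set_option maxHeartbeats 0 in
set_option maxRecDepth 100000 in
/-- The tables of class 1. -/
def tab1 : InvTab chevF4 where
  e := [1, 0, 0, 0]
  gens := gens1
  trans := trans1
  edges := [[4, 1, 6, 5], [2, 0, 3, 5], [1, 4, 3, 5]]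
  levels := [lev1_0, lev1_1, lev1_2, lev1_3]

/-- The coroots of the generators of class 1. -/
def cor1 : List (List ℤ) := [[0, 1, 1, 0], [1, 0, 0, 0], [0, 0, 0, 1], [0, 0, 1, 0]]

/-- Twice the inverse of `cor1`. -/
def z1 : List (List ℤ) := [[0, 2, 0, 0], [2, 0, 0, -2], [0, 0, 0, 2], [0, 0, 2, 0]]

/-- The exponents of the length polynomial of class 1. -/
def exps1 : List (List ℕ) := [[0, 1], [0, 1, 2, 3], [0, 1, 2, 3, 4, 5], [0, 1, 2, 3, 4, 5, 6, 7]]

set_option maxHeartbeats 0 in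
set_option maxRecDepth 100000 in
/-- The generators of class 2. -/
def gens2 : List (W × Fin 4) := [([], 1), ([], 2), ([], 0), ([3, 2, 1, 2, 3, 0, 1], 2)]

set_option maxHeartbeats 0 in
set_option maxRecDepth 100000 in
/-- The transversal of class 2. -/
def trans2 : List W := [[], [3], [2, 3], [1, 2, 3], [0, 1, 2, 3], [2, 1, 2, 3], [2, 0, 1, 2, 3], [3, 2, 1, 2, 3], [1, 2, 0, 1, 2, 3], [3, 2, 0, 1, 2, 3], [2, 1, 2, 0, 1, 2, 3], [3, 1, 2, 0, 1, 2, 3]]

set_option maxHeartbeats 0 in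
set_option maxRecDepth 100000 in
/-- Level 0 of class 2. -/
def lev2_0 : ChainLevel chevF4 where
  P := [27]
  reps := ([[], [1]] : List W)
  expr := [[], [0]]
  next := [[1], [0]]

set_option maxHeartbeats 0 in
set_option maxRecDepth 100000 in
/-- Level 1 of class 2. -/
def lev2_1 : ChainLevel chevF4 where
  P := [25, 27, 28, 30]
  reps := ([[], [2], [1, 2], [2, 1, 2]] : List W)
  expr := [[], [1], [0, 1], [1, 0, 1]]
  next := [[4, 1], [2, 0], [1, 3], [4, 2]]

set_option maxHeartbeats 0 in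
set_option maxRecDepth 100000 in
/-- Level 2 of class 2. -/
def lev2_2 : ChainLevel chevF4 where
  P := [25, 27, 28, 30, 33, 34, 35, 37, 41]
  reps := ([[], [0], [1, 0], [2, 1, 0], [1, 2, 1, 0], [0, 1, 2, 1, 0]] : List W)
  expr := [[], [2], [0, 2], [1, 0, 2], [0, 1, 0, 2], [2, 0, 1, 0, 2]]
  next := [[6, 7, 1], [2, 7, 0], [1, 3, 6], [4, 2, 6], [3, 7, 5], [6, 7, 4]]

set_option maxHeartbeats 0 in
set_option maxRecDepth 100000 in
/-- Level 3 of class 2. -/
def lev2_3 : ChainLevel chevF4 where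
  P := [25, 27, 28, 30, 33, 34, 35, 37, 41, 47]
  reps := ([[], [3, 2, 1, 2, 0, 1, 2, 3, 2, 1, 2, 0, 1, 2, 3]] : List W)
  expr := [[], [3]]
  next := [[2, 3, 4, 1], [2, 3, 4, 0]]

set_option maxHeartbeats 0 in
set_option maxRecDepth 100000 in
/-- The tables of class 2. -/
def tab2 : InvTab chevF4 where
  e := [1, 0, 1, 0]
  gens := gens2
  trans := trans2
  edges := [[14, 12, 13, 1], [14, 12, 2, 0], [14, 3, 1, 13], [4, 2, 5, 13], [3, 14, 6, 13], [6, 12, 3, 7], [5, 8, 4, 9], [9, 12, 13, 5], [12, 6, 10, 11], [7, 11, 13, 6], [12, 14, 8, 15], [12, 9, 15, 8]]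
  levels := [lev2_0, lev2_1, lev2_2, lev2_3]

/-- The coroots of the generators of class 2. -/
def cor2 : List (List ℤ) := [[0, 1, 0, 0], [0, 0, 1, 0], [1, 0, 0, 0], [1, 2, 3, 2]]

/-- Twice the inverse of `cor2`. -/
def z2 : List (List ℤ) := [[0, 0, 2, 0], [2, 0, 0, 0], [0, 2, 0, 0], [-2, -3, -1, 1]]

/-- The exponents of the length polynomial of class 2. -/
def exps2 : List (List ℕ) := [[0, 1], [0, 1, 2, 3], [0, 1, 2, 3, 4, 5], [0, 1]]

set_option maxHeartbeats 0 in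
set_option maxRecDepth 100000 in
/-- The conjugating words. -/
def cov : List (Bool × W) := [(false, []), (false, []), (false, [0, 1]), (false, [1]), (true, [3, 1, 2, 0, 1, 2, 3]), (true, []), (true, [3, 2, 0, 1, 2, 3]), (true, [3, 2, 1, 2, 3]), (true, [2, 1, 2, 0, 1, 2, 3]), (true, [2, 3]), (true, [0, 1, 2, 3]), (true, [1, 2, 3]), (true, [1, 2, 0, 1, 2, 3]), (true, [3]), (true, [2, 0, 1, 2, 3]), (true, [2, 1, 2, 3])]

end InvF4

end Cfsg.Agent.Lang
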