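import Cfsg.Agent.Lang.TorusCheck
import Cfsg.Prelude.Def_ChevE8

/-! Tables of the cyclic self-centralizing torus of type E8 (owner: helper32; generated). -/

set_option autoImplicit false

namespace Cfsg.Agent.Lang

open Cfsg.Lie Cfsg.Agent.ChevGrp Matrix

/-- The word of the regular element. -/
def wordE8 : List (Fin chevE8.rank) := ([0, 1, 2, 3, 4, 5, 6, 7] : List (Fin 8))

/-- Its matrix. -/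
def wlE8 : List (List ℤ) := [[-1, 0, -1, -1, -1, -1, -1, -1], [0, -1, 0, -1, -1, -1, -1, -1], [1, 0, 0, 0, 0, 0, 0, 0], [0, 1, 1, 1, 1, 1, 1, 1], [0, 0, 0, 1, 0, 0, 0, 0], [0, 0, 0, 0, 1, 0, 0, 0], [0, 0, 0, 0, 0, 1, 0, 0], [0, 0, 0, 0, 0, 0, 1, 0]]

set_option maxRecDepth 100000 in
set_option maxHeartbeats 0 in
/-- The tables. -/
def tabE8 : TorusTab where
  kl := [[0, 0, 0, 0, 0, 0, 0, -1], [0, 0, 0, 0, 0, 0, -1, 1], [0, 0, 0, 0, 0, -1, 1, 0], [0, 0, 0, 0, -1, 1, 0, 0], [0, 0, 0, -1, 1, 0, 0, 0], [0, -1, -1, 1, 0, 0, 0, 0], [-1, -1, 1, 0, 0, 0, 0, 0], [0, 1, -1, 0, 0, 0, 0, 0], [-1, 1, 1, -1, 0, 0, 0, 0], [-1, 0, 0, 1, -1, 0, 0, 0], [-1, 0, 0, 0, 1, -1, 0, 0], [-1, 0, 0, 0, 0, 1, -1, 0], [-1, 0, 0, 0, 0, 0, 1, -1], [-1, 0, 0, 0, 0, 0, 0, 1], [1, -1,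 0, 0, 0, 0, 0, 0], [1, 1, 0, -1, 0, 0, 0, 0], [1, 0, -1, 1, -1, 0, 0, 0], [1, 0, -1, 0, 1, -1, 0, 0], [1, 0, -1, 0, 0, 1, -1, 0], [1, 0, -1, 0, 0, 0, 1, -1], [1, 0, -1, 0, 0, 0, 0, 1], [0, 0, 1, 0, -1, 0, 0, 0], [0, 0, 1, -1, 1, -1, 0, 0], [0, 0, 1, -1, 0, 1, -1, 0], [0, 0, 1, -1, 0, 0, 1, -1], [0, 0, 1, -1, 0, 0, 0, 1], [0, -1, 0, 1, 0, -1, 0, 0], [0, -1, 0, 1, -1, 1, -1, 0], [0, -1, 0, 1, -1, 0, 1, -1], [0, -1, 0, 1, -1, 0, 0, 1], [0, -1, 0, 0, 1, 0, -1, 0], [0, -1, 0, 0, 1, -1, 1, -1], [0, -1, 0, 0, 1, -1, 0, 1], [0, -1, 0, 0, 0, 1, 0, -1], [0, -1, 0, 0, 0, 1, -1, 1], [0, -1, 0, 0, 0, 0, 1, 0], [0, 1, 0, 0, 0, -1, 0, 0], [0, 1, 0, 0, -1, 1, -1, 0], [0, 1, 0, 0, -1, 0, 1, -1], [0, 1, 0, 0, -1, 0, 0, 1], [0, 1, 0, -1, 1, 0, -1, 0], [0, 1, 0, -1, 1, -1,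 1, -1], [0, 1, 0, -1, 1, -1, 0, 1], [0, 1, 0, -1, 0, 1, 0, -1], [0, 1, 0, -1, 0, 1, -1, 1], [0, 1, 0, -1, 0, 0, 1, 0], [0, 0, -1, 1, 0, 0, -1, 0], [0, 0, -1, 1, 0, -1, 1, -1], [0, 0, -1, 1, 0, -1, 0, 1], [0, 0, -1, 1, -1, 1, 0, -1], [0, 0, -1, 1, -1, 1, -1, 1], [0, 0, -1, 1, -1, 0, 1, 0], [0, 0, -1, 0, 1, 0, 0, -1], [0, 0, -1, 0, 1, 0, -1, 1], [0, 0, -1, 0, 1, -1, 1, 0], [0, 0, -1, 0, 0, 1, 0, 0], [-1, 0, 1, 0, 0, 0, -1, 0], [-1, 0, 1, 0, 0, -1, 1, -1], [-1, 0, 1, 0, 0, -1, 0, 1], [-1, 0, 1, 0, -1, 1, 0, -1], [-1, 0, 1, 0, -1, 1, -1, 1], [-1, 0, 1, 0, -1, 0, 1, 0], [-1, 0, 1, -1, 1, 0, 0, -1], [-1, 0, 1, -1, 1, 0, -1, 1], [-1, 0, 1, -1, 1, -1, 1, 0], [-1, 0, 1, -1, 0, 1, 0, 0], [-1, -1, 0, 1, 0, 0, 0, -1], [-1, -1, 0, 1, 0, 0, -1, 1], [-1, -1, 0, 1, 0,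 -1, 1, 0], [-1, -1, 0, 1, -1, 1, 0, 0], [-1, -1, 0, 0, 1, 0, 0, 0], [-1, 1, 0, 0, 0, 0, 0, -1], [-1, 1, 0, 0, 0, 0, -1, 1], [-1, 1, 0, 0, 0, -1, 1, 0], [-1, 1, 0, 0, -1, 1, 0, 0], [-1, 1, 0, -1, 1, 0, 0, 0], [-1, 0, -1, 1, 0, 0, 0, 0], [-2, 0, 1, 0, 0, 0, 0, 0], [1, 0, 0, 0, 0, 0, -1, 0], [1, 0, 0, 0, 0, -1, 1, -1], [1, 0, 0, 0, 0, -1, 0, 1], [1, 0, 0, 0, -1, 1, 0, -1], [1, 0, 0, 0, -1, 1, -1, 1], [1, 0, 0, 0, -1, 0, 1, 0], [1, 0, 0, -1, 1, 0, 0, -1], [1, 0, 0, -1, 1, 0, -1, 1], [1, 0, 0, -1, 1, -1, 1, 0], [1, 0, 0, -1, 0, 1, 0, 0], [1, -1, -1, 1, 0, 0, 0, -1], [1, -1, -1, 1, 0, 0, -1, 1], [1, -1, -1, 1, 0, -1, 1, 0], [1, -1, -1, 1, -1, 1, 0, 0], [1, -1, -1, 0, 1, 0, 0, 0], [0, -1, 1, 0, 0, 0, 0, -1], [0, -1, 1, 0, 0, 0, -1, 1], [0, -1, 1, 0, 0, -1, 1,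 0], [0, -1, 1, 0, -1, 1, 0, 0], [0, -1, 1, -1, 1, 0, 0, 0], [0, -2, 0, 1, 0, 0, 0, 0], [1, 1, -1, 0, 0, 0, 0, -1], [1, 1, -1, 0, 0, 0, -1, 1], [1, 1, -1, 0, 0, -1, 1, 0], [1, 1, -1, 0, -1, 1, 0, 0], [1, 1, -1, -1, 1, 0, 0, 0], [1, 0, -2, 1, 0, 0, 0, 0], [0, 1, 1, -1, 0, 0, 0, -1], [0, 1, 1, -1, 0, 0, -1, 1], [0, 1, 1, -1, 0, -1, 1, 0], [0, 1, 1, -1, -1, 1, 0, 0], [0, 1, 1, -2, 1, 0, 0, 0], [0, 0, 0, 1, -1, 0, 0, -1], [0, 0, 0, 1, -1, 0, -1, 1], [0, 0, 0, 1, -1, -1, 1, 0], [0, 0, 0, 1, -2, 1, 0, 0], [0, 0, 0, 0, 1, -1, 0, -1], [0, 0, 0, 0, 1, -1, -1, 1], [0, 0, 0, 0, 1, -2, 1, 0], [0, 0, 0, 0, 0, 1, -1, -1], [0, 0, 0, 0, 0, 1, -2, 1], [0, 0, 0, 0, 0, 0, 1, -2], [0, 0, 0, 0, 0, 0, -1, 2], [0, 0, 0, 0, 0, -1, 2, -1], [0, 0, 0, 0, 0, -1, 1, 1], [0, 0, 0,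 0, -1, 2, -1, 0], [0, 0, 0, 0, -1, 1, 1, -1], [0, 0, 0, 0, -1, 1, 0, 1], [0, 0, 0, -1, 2, -1, 0, 0], [0, 0, 0, -1, 1, 1, -1, 0], [0, 0, 0, -1, 1, 0, 1, -1], [0, 0, 0, -1, 1, 0, 0, 1], [0, -1, -1, 2, -1, 0, 0, 0], [0, -1, -1, 1, 1, -1, 0, 0], [0, -1, -1, 1, 0, 1, -1, 0], [0, -1, -1, 1, 0, 0, 1, -1], [0, -1, -1, 1, 0, 0, 0, 1], [-1, 0, 2, -1, 0, 0, 0, 0], [-1, -1, 1, 1, -1, 0, 0, 0], [-1, -1, 1, 0, 1, -1, 0, 0], [-1, -1, 1, 0, 0, 1, -1, 0], [-1, -1, 1, 0, 0, 0, 1, -1], [-1, -1, 1, 0, 0, 0, 0, 1], [0, 2, 0, -1, 0, 0, 0, 0], [0, 1, -1, 1, -1, 0, 0, 0], [0, 1, -1, 0, 1, -1, 0, 0], [0, 1, -1, 0, 0, 1, -1, 0], [0, 1, -1, 0, 0, 0, 1, -1], [0, 1, -1, 0, 0, 0, 0, 1], [-1, 1, 1, 0, -1, 0, 0, 0], [-1, 1, 1, -1, 1, -1, 0, 0], [-1, 1, 1, -1, 0, 1, -1, 0], [-1, 1, 1,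 -1, 0, 0, 1, -1], [-1, 1, 1, -1, 0, 0, 0, 1], [-1, 0, 0, 1, 0, -1, 0, 0], [-1, 0, 0, 1, -1, 1, -1, 0], [-1, 0, 0, 1, -1, 0, 1, -1], [-1, 0, 0, 1, -1, 0, 0, 1], [-1, 0, 0, 0, 1, 0, -1, 0], [-1, 0, 0, 0, 1, -1, 1, -1], [-1, 0, 0, 0, 1, -1, 0, 1], [-1, 0, 0, 0, 0, 1, 0, -1], [-1, 0, 0, 0, 0, 1, -1, 1], [-1, 0, 0, 0, 0, 0, 1, 0], [2, 0, -1, 0, 0, 0, 0, 0], [1, 0, 1, -1, 0, 0, 0, 0], [1, -1, 0, 1, -1, 0, 0, 0], [1, -1, 0, 0, 1, -1, 0, 0], [1, -1, 0, 0, 0, 1, -1, 0], [1, -1, 0, 0, 0, 0, 1, -1], [1, -1, 0, 0, 0, 0, 0, 1], [1, 1, 0, 0, -1, 0, 0, 0], [1, 1, 0, -1, 1, -1, 0, 0], [1, 1, 0, -1, 0, 1, -1, 0], [1, 1, 0, -1, 0, 0, 1, -1], [1, 1, 0, -1, 0, 0, 0, 1], [1, 0, -1, 1, 0, -1, 0, 0], [1, 0, -1, 1, -1, 1, -1, 0], [1, 0, -1, 1, -1, 0, 1, -1], [1, 0, -1, 1, -1,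 0, 0, 1], [1, 0, -1, 0, 1, 0, -1, 0], [1, 0, -1, 0, 1, -1, 1, -1], [1, 0, -1, 0, 1, -1, 0, 1], [1, 0, -1, 0, 0, 1, 0, -1], [1, 0, -1, 0, 0, 1, -1, 1], [1, 0, -1, 0, 0, 0, 1, 0], [0, 0, 1, 0, 0, -1, 0, 0], [0, 0, 1, 0, -1, 1, -1, 0], [0, 0, 1, 0, -1, 0, 1, -1], [0, 0, 1, 0, -1, 0, 0, 1], [0, 0, 1, -1, 1, 0, -1, 0], [0, 0, 1, -1, 1, -1, 1, -1], [0, 0, 1, -1, 1, -1, 0, 1], [0, 0, 1, -1, 0, 1, 0, -1], [0, 0, 1, -1, 0, 1, -1, 1], [0, 0, 1, -1, 0, 0, 1, 0], [0, -1, 0, 1, 0, 0, -1, 0], [0, -1, 0, 1, 0, -1, 1, -1], [0, -1, 0, 1, 0, -1, 0, 1], [0, -1, 0, 1, -1, 1, 0, -1], [0, -1, 0, 1, -1, 1, -1, 1], [0, -1, 0, 1, -1, 0, 1, 0], [0, -1, 0, 0, 1, 0, 0, -1], [0, -1, 0, 0, 1, 0, -1, 1], [0, -1, 0, 0, 1, -1, 1, 0], [0, -1, 0, 0, 0, 1, 0, 0], [0, 1, 0, 0, 0, 0, -1,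 0], [0, 1, 0, 0, 0, -1, 1, -1], [0, 1, 0, 0, 0, -1, 0, 1], [0, 1, 0, 0, -1, 1, 0, -1], [0, 1, 0, 0, -1, 1, -1, 1], [0, 1, 0, 0, -1, 0, 1, 0], [0, 1, 0, -1, 1, 0, 0, -1], [0, 1, 0, -1, 1, 0, -1, 1], [0, 1, 0, -1, 1, -1, 1, 0], [0, 1, 0, -1, 0, 1, 0, 0], [0, 0, -1, 1, 0, 0, 0, -1], [0, 0, -1, 1, 0, 0, -1, 1], [0, 0, -1, 1, 0, -1, 1, 0], [0, 0, -1, 1, -1, 1, 0, 0], [0, 0, -1, 0, 1, 0, 0, 0], [-1, 0, 1, 0, 0, 0, 0, -1], [-1, 0, 1, 0, 0, 0, -1, 1], [-1, 0, 1, 0, 0, -1, 1, 0], [-1, 0, 1, 0, -1, 1, 0, 0], [-1, 0, 1, -1, 1, 0, 0, 0], [-1, -1, 0, 1, 0, 0, 0, 0], [-1, 1, 0, 0, 0, 0, 0, 0], [1, 0, 0, 0, 0, 0, 0, -1], [1, 0, 0, 0, 0, 0, -1, 1], [1, 0, 0, 0, 0, -1, 1, 0], [1, 0, 0, 0, -1, 1, 0, 0], [1, 0, 0, -1, 1, 0, 0, 0], [1, -1, -1, 1, 0, 0, 0, 0], [0, -1, 1,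 0, 0, 0, 0, 0], [1, 1, -1, 0, 0, 0, 0, 0], [0, 1, 1, -1, 0, 0, 0, 0], [0, 0, 0, 1, -1, 0, 0, 0], [0, 0, 0, 0, 1, -1, 0, 0], [0, 0, 0, 0, 0, 1, -1, 0], [0, 0, 0, 0, 0, 0, 1, -1], [0, 0, 0, 0, 0, 0, 0, 1]]
  perm := [15, 0, 1, 2, 3, 4, 7, 14, 16, 17, 18, 19, 20, 5, 8, 21, 22, 23, 24, 25, 6, 36, 37, 38, 39, 9, 40, 41, 42, 10, 43, 44, 11, 45, 12, 13, 78, 79, 80, 26, 81, 82, 27, 83, 28, 29, 84, 85, 30, 86, 31, 32, 87, 33, 34, 35, 99, 100, 46, 101, 47, 48, 102, 49, 50, 51, 103, 52, 53, 54, 55, 162, 88, 89, 90, 91, 92, 104, 105, 106, 56, 107, 57, 58, 108, 59, 60, 61, 109, 62, 63, 64, 65, 141, 71, 72, 73, 74, 75, 163, 93, 94, 95, 96, 97, 169, 110, 111, 112, 113, 170, 114, 115, 116, 171, 117, 118, 172, 119, 173, 66, 120, 67, 121, 122, 68, 123, 124, 125, 69, 126,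 127, 128, 129, 70, 142, 143, 144, 145, 146, 76, 164, 165, 166, 167, 168, 98, 174, 175, 176, 177, 130, 178, 179, 180, 131, 181, 182, 132, 183, 133, 134, 135, 147, 148, 149, 150, 151, 77, 184, 185, 186, 187, 136, 188, 189, 190, 137, 191, 192, 138, 193, 139, 140, 204, 205, 206, 152, 207, 208, 153, 209, 154, 155, 210, 211, 156, 212, 157, 158, 213, 159, 160, 161, 226, 227, 194, 228, 195, 196, 229, 197, 198, 199, 230, 200, 201, 202, 203, 233, 214, 215, 216, 217, 218, 231, 234, 219, 220, 221, 222, 223, 225, 232, 235, 236, 237, 238, 239, 224]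
  orbits := [[74, 90, 63, 49, 86, 60, 47, 85, 59, 101, 94, 71, 162, 135, 142, 165, 149, 176, 190, 153, 179, 192, 154, 180, 138, 145, 168, 77, 104, 97], [35, 13, 5, 4, 3, 2, 1, 0, 15, 21, 36, 78, 105, 169, 184, 204, 226, 234, 235, 236, 237, 238, 239, 224, 218, 203, 161, 134, 70, 55], [37, 79, 106, 110, 170, 185, 205, 227, 219, 233, 232, 225, 231, 223, 217, 202, 160, 133, 129, 69, 54, 34, 12, 20, 6, 7, 14, 8, 16, 22], [40, 81, 107, 111, 114, 171, 186, 206, 194, 210, 229, 221, 215, 200, 213, 199, 158, 132, 128, 125, 68, 53, 33, 45, 29, 10, 18, 24, 39, 26], [46, 84, 108, 112, 115, 117, 172, 187, 152, 178, 191, 209, 196, 156, 181, 193, 155, 131, 127, 124, 122, 67, 52, 87, 61, 48, 30, 43, 83, 58], [72, 88, 109, 113, 116, 118, 119, 173, 136, 143, 166, 150, 177,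 137, 144, 167, 151, 130, 126, 123, 121, 120, 66, 103, 96, 73, 89, 62, 102, 95], [32, 11, 19, 25, 9, 17, 23, 38, 80, 56, 99, 163, 147, 174, 188, 207, 228, 220, 214, 230, 222, 216, 201, 159, 183, 140, 76, 92, 65, 51], [31, 44, 28, 42, 27, 41, 82, 57, 100, 93, 141, 164, 148, 175, 189, 208, 195, 211, 197, 212, 198, 157, 182, 139, 146, 98, 75, 91, 64, 50]]
  base := [0, 15, 21, 36, 78, 105, 169, 184, 204, 226, 234, 235, 236, 237, 238, 239, 224, 218, 203, 161, 134, 70, 55, 35, 13, 5, 4, 3, 2, 1]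
  binv := [[0, -1, -1, -1, -1, -1, 0, -1], [0, -1, -1, -2, -1, -1, 0, 0], [-1, -1, -1, -2, -2, -1, -1, 0], [-1, 0, -1, -1, -1, -1, -1, 0], [0, 0, 0, 0, 0, 0, -1, 0], [0, 1, 1, 1, 1, 1, 0, 0], [1, 1, 1, 2, 1, 1, 1, 0], [1, 0, 1, 1, 1, 0, 1, 0]]
  wit := [0, 0, 0, 0, 0, 0, 6, 6, 6, 6, 10, 6, 6, 0, 6, 0, 6, 6, 10, 6, 6, 0, 6, 6, 10, 6, 10, 6, 6, 10, 9, 6, 6, 10, 6, 0, 0, 6, 6, 10, 10, 6, 6, 9, 6, 10, 9, 6, 9, 6, 6, 6, 9, 10, 6, 0, 6, 6, 9, 6, 6, 9, 6, 6, 6, 6, 6, 9, 10, 6, 0, 6, 6, 6, 6, 6, 6, 6, 0, 6, 6, 10, 6, 9, 9, 6, 6, 9, 6, 6, 6, 6, 6, 6, 6, 6, 6, 6, 6, 6, 6, 6, 6, 6, 6, 0, 6, 10, 9, 6, 6, 10, 9, 6, 10, 9, 6, 9, 6, 6, 6, 6, 9, 6, 9, 10, 6, 9, 10, 6, 6, 9, 10, 6, 0, 6, 6, 6, 6, 6, 6, 6, 6, 6, 6, 6, 6, 6, 6, 6, 6, 6, 9, 6, 6, 9, 9, 6, 10, 6, 6, 0, 6,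 6, 6, 6, 6, 6, 6, 0, 6, 10, 9, 6, 6, 6, 6, 6, 9, 6, 6, 9, 6, 6, 0, 6, 10, 9, 6, 6, 6, 9, 6, 9, 10, 6, 9, 6, 6, 10, 10, 6, 6, 0, 0, 6, 10, 6, 6, 9, 10, 6, 6, 10, 6, 10, 6, 6, 0, 6, 6, 10, 6, 6, 0, 6, 0, 6, 6, 10, 6, 6, 6, 6, 0, 0, 0, 0, 0, 0]

set_option maxRecDepth 100000 in
set_option maxHeartbeats 0 in
theorem validE8 : tabE8.Valid chevE8 wordE8 wlE8 where
  kl_ok := by decide +kernel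
  nodup_ok := by decide +kernel
  w_ok := by decide +kernel
  perm_ok := by decide +kernel
  orb_chain := by decide +kernel
  orb_cover := by decide +kernel
  base_chain := by decide +kernel
  base_ne := by decide +kernel
  binv_ok := by decide +kernel
  cent_ok := by decide +kernel

/-- The torus data. -/
def torusE8 : TorusData chevE8 where
  w := wordE8
  M := matL chevE8 [[0, 1, 0, 0, 0, 0, 0, -1], [0, 0, 1, 0, 0, 0, 0, -1], [1, 1, 0, 0, 0, 0, 0, -1], [0, 1, 1, 0, 0, 0, 0, -1], [0, 0, 0, 1, 0, 0, 0, -1], [0, 0, 0, 0, 1, 0, 0, -1], [0, 0, 0, 0, 0, 1, 0, -1], [0, 0, 0, 0, 0, 0, 1, -1]]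
  P := matL chevE8 [[0, 0, 0, 0, 0, 0, 0, 1], [0, 0, 0, 0, 0, 0, 1, -1], [0, 0, 0, 0, 0, 1, -1, 0], [0, 0, 0, 0, 1, -1, 0, 0], [0, 0, 0, 1, -1, 0, 0, 0], [0, 1, 1, -1, 0, 0, 0, 0], [1, 0, 0, 0, 0, 0, 0, -1], [0, 1, 0, 0, 0, 0, -1, 0]]
  Q := matL chevE8 [[1, 0, 0, 0, 0, 0, 1, 0], [1, 1, 0, 0, 0, 0, 0, 1], [0, 0, 1, 1, 1, 1, 0, -1], [1, 1, 1, 1, 1, 0, 0, 0], [1, 1, 1, 1, 0, 0, 0, 0], [1, 1, 1, 0, 0, 0, 0, 0], [1, 1, 0, 0, 0, 0, 0, 0], [1, 0, 0, 0, 0, 0, 0, 0]]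
  a := vecL chevE8 [1, 1, 0, -1, -1, -1, 0, 1]
  hM := by
    rw [← matL_prodL, validE8.w_ok]
    decide +kernel
  hPQ := by decide +kernel
  hQP := by decide +kernel
  hPM := by decide +kernel
  pos := by decide +kernel

theorem ordE8 (q : ℕ) : torusE8.ord q = (1) * (q : ℤ) ^ 0 + (1) * (q : ℤ) ^ 1 + (-1) * (q : ℤ) ^ 3 + (-1) * (q : ℤ) ^ 4 + (-1) * (q : ℤ) ^ 5 + (1) * (q : ℤ) ^ 7 + (1) * (q : ℤ) ^ 8 := by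
  rw [TorusData.ord]
  show 1 + (q : ℤ) * ∑ i : Fin 8, vecL chevE8 [1, 1, 0, -1, -1, -1, 0, 1] i * (q : ℤ) ^ (8 - 1 - (i : ℕ)) = _
  simp [vecL, Fin.sum_univ_succ]
  all_goals ring

theorem wtE8_0 (q : ℕ) :
    ∃ A B : ℤ, A * torusE8.ord q + B * torusE8.wt q (kap chevE8 74) = 1 := by
  refine ⟨(1) * (q : ℤ) ^ 0 + (1) * (q : ℤ) ^ 3 + (-1) * (q : ℤ) ^ 5, (-1) * (q : ℤ) ^ 1 + (-1) * (q : ℤ) ^ 2 + (-1) * (q : ℤ) ^ 3 + (-1) * (q : ℤ) ^ 4 + (1) * (q : ℤ) ^ 6 + (1) * (q : ℤ) ^ 7, ?_⟩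
  have e : kap chevE8 74 ᵥ* torusE8.Q = vecL chevE8 [0, 1, 0, -1, 0, 0, -1, 1] := by decide +kernel
  rw [ordE8, TorusData.wt, e]
  show _ + _ * ∑ i : Fin 8, vecL chevE8 [0, 1, 0, -1, 0, 0, -1, 1] i * (q : ℤ) ^ (8 - 1 - (i : ℕ)) = _
  simp [vecL, Fin.sum_univ_succ]
  all_goals ring

theorem wtE8_1 (q : ℕ) :
    ∃ A B : ℤ, A * torusE8.ord q + B * torusE8.wt q (kap chevE8 35) = 1 := by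
  refine ⟨(0 : ℤ), (-1) * (q : ℤ) ^ 0, ?_⟩
  have e : kap chevE8 35 ᵥ* torusE8.Q = vecL chevE8 [0, 0, 0, 0, 0, 0, 0, -1] := by decide +kernel
  rw [ordE8, TorusData.wt, e]
  show _ + _ * ∑ i : Fin 8, vecL chevE8 [0, 0, 0, 0, 0, 0, 0, -1] i * (q : ℤ) ^ (8 - 1 - (i : ℕ)) = _
  simp [vecL, Fin.sum_univ_succ]
  all_goals ring

theorem wtE8_2 (q : ℕ) :
    ∃ A B : ℤ, A * torusE8.ord q + B * torusE8.wt q (kap chevE8 37) = 1 := by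
  refine ⟨(1) * (q : ℤ) ^ 0, (-1) * (q : ℤ) ^ 1 + (1) * (q : ℤ) ^ 3 + (1) * (q : ℤ) ^ 4, ?_⟩
  have e : kap chevE8 37 ᵥ* torusE8.Q = vecL chevE8 [0, 0, 0, -1, 0, 0, 0, 1] := by decide +kernel
  rw [ordE8, TorusData.wt, e]
  show _ + _ * ∑ i : Fin 8, vecL chevE8 [0, 0, 0, -1, 0, 0, 0, 1] i * (q : ℤ) ^ (8 - 1 - (i : ℕ)) = _
  simp [vecL, Fin.sum_univ_succ]
  all_goals ring

theorem wtE8_3 (q : ℕ) :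
    ∃ A B : ℤ, A * torusE8.ord q + B * torusE8.wt q (kap chevE8 40) = 1 := by
  refine ⟨(1) * (q : ℤ) ^ 2, (1) * (q : ℤ) ^ 0 + (-1) * (q : ℤ) ^ 2 + (1) * (q : ℤ) ^ 6 + (1) * (q : ℤ) ^ 7, ?_⟩
  have e : kap chevE8 40 ᵥ* torusE8.Q = vecL chevE8 [0, 0, 0, 0, -1, 0, 0, 1] := by decide +kernel
  rw [ordE8, TorusData.wt, e]
  show _ + _ * ∑ i : Fin 8, vecL chevE8 [0, 0, 0, 0, -1, 0, 0, 1] i * (q : ℤ) ^ (8 - 1 - (i : ℕ)) = _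
  simp [vecL, Fin.sum_univ_succ]
  all_goals ring

theorem wtE8_4 (q : ℕ) :
    ∃ A B : ℤ, A * torusE8.ord q + B * torusE8.wt q (kap chevE8 46) = 1 := by
  refine ⟨(1) * (q : ℤ) ^ 0, (-1) * (q : ℤ) ^ 1 + (1) * (q : ℤ) ^ 4 + (1) * (q : ℤ) ^ 5 + (1) * (q : ℤ) ^ 6, ?_⟩
  have e : kap chevE8 46 ᵥ* torusE8.Q = vecL chevE8 [0, 0, 0, 0, 0, -1, 0, 1] := by decide +kernel
  rw [ordE8, TorusData.wt, e]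
  show _ + _ * ∑ i : Fin 8, vecL chevE8 [0, 0, 0, 0, 0, -1, 0, 1] i * (q : ℤ) ^ (8 - 1 - (i : ℕ)) = _
  simp [vecL, Fin.sum_univ_succ]
  all_goals ring

theorem wtE8_5 (q : ℕ) :
    ∃ A B : ℤ, A * torusE8.ord q + B * torusE8.wt q (kap chevE8 72) = 1 := by
  refine ⟨(1) * (q : ℤ) ^ 0, (-1) * (q : ℤ) ^ 1 + (-1) * (q : ℤ) ^ 2 + (1) * (q : ℤ) ^ 4 + (2) * (q : ℤ) ^ 5 + (2) * (q : ℤ) ^ 6 + (1) * (q : ℤ) ^ 7, ?_⟩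
  have e : kap chevE8 72 ᵥ* torusE8.Q = vecL chevE8 [0, 0, 0, 0, 0, 0, -1, 1] := by decide +kernel
  rw [ordE8, TorusData.wt, e]
  show _ + _ * ∑ i : Fin 8, vecL chevE8 [0, 0, 0, 0, 0, 0, -1, 1] i * (q : ℤ) ^ (8 - 1 - (i : ℕ)) = _
  simp [vecL, Fin.sum_univ_succ]
  all_goals ring

theorem wtE8_6 (q : ℕ) :
    ∃ A B : ℤ, A * torusE8.ord q + B * torusE8.wt q (kap chevE8 32) = 1 := by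
  refine ⟨(-1) * (q : ℤ) ^ 2 + (1) * (q : ℤ) ^ 3, (-1) * (q : ℤ) ^ 0 + (-1) * (q : ℤ) ^ 2 + (1) * (q : ℤ) ^ 5, ?_⟩
  have e : kap chevE8 32 ᵥ* torusE8.Q = vecL chevE8 [0, -1, 0, 1, 0, 0, 0, -1] := by decide +kernel
  rw [ordE8, TorusData.wt, e]
  show _ + _ * ∑ i : Fin 8, vecL chevE8 [0, -1, 0, 1, 0, 0, 0, -1] i * (q : ℤ) ^ (8 - 1 - (i : ℕ)) = _
  simp [vecL, Fin.sum_univ_succ]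
  all_goals ring

theorem wtE8_7 (q : ℕ) :
    ∃ A B : ℤ, A * torusE8.ord q + B * torusE8.wt q (kap chevE8 31) = 1 := by
  refine ⟨(-1) * (q : ℤ) ^ 1 + (1) * (q : ℤ) ^ 4, (-1) * (q : ℤ) ^ 0 + (-1) * (q : ℤ) ^ 1 + (-1) * (q : ℤ) ^ 2 + (1) * (q : ℤ) ^ 4 + (1) * (q : ℤ) ^ 5, ?_⟩
  have e : kap chevE8 31 ᵥ* torusE8.Q = vecL chevE8 [-1, 0, 0, 1, 0, 0, 0, -1] := by decide +kernel
  rw [ordE8, TorusData.wt, e]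
  show _ + _ * ∑ i : Fin 8, vecL chevE8 [-1, 0, 0, 1, 0, 0, 0, -1] i * (q : ℤ) ^ (8 - 1 - (i : ℕ)) = _
  simp [vecL, Fin.sum_univ_succ]
  all_goals ring

theorem repE8 (q : ℕ) : ∀ r ∈ tabE8.orbits.map (fun o => o.headD 0),
    ∃ A B : ℤ, ∃ c : ℤ, (c = 1 ∨ c = 2) ∧ A * torusE8.ord q + B * torusE8.wt q (kap chevE8 r) = c := by
  intro r hr
  have hr' : r ∈ [74, 35, 37, 40, 46, 72, 32, 31] := hr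
  simp only [List.mem_cons, List.not_mem_nil, or_false] at hr'
  rcases hr' with rfl | rfl | rfl | rfl | rfl | rfl | rfl | rfl
  · obtain ⟨A, B, e⟩ := wtE8_0 q
    exact ⟨A, B, _, Or.inl rfl, e⟩
  · obtain ⟨A, B, e⟩ := wtE8_1 q
    exact ⟨A, B, _, Or.inl rfl, e⟩
  · obtain ⟨A, B, e⟩ := wtE8_2 q
    exact ⟨A, B, _, Or.inl rfl, e⟩
  · obtain ⟨A, B, e⟩ := wtE8_3 q
    exact ⟨A, B, _, Or.inl rfl, e⟩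
  · obtain ⟨A, B, e⟩ := wtE8_4 q
    exact ⟨A, B, _, Or.inl rfl, e⟩
  · obtain ⟨A, B, e⟩ := wtE8_5 q
    exact ⟨A, B, _, Or.inl rfl, e⟩
  · obtain ⟨A, B, e⟩ := wtE8_6 q
    exact ⟨A, B, _, Or.inl rfl, e⟩
  · obtain ⟨A, B, e⟩ := wtE8_7 q
    exact ⟨A, B, _, Or.inl rfl, e⟩

end Cfsg.Agent.Lang
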