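import Cfsg.Agent.Lang.TorusCheck
import Cfsg.Prelude.Def_ChevF4

/-! Tables of the cyclic self-centralizing torus of type F4 (owner: helper32; generated). -/

set_option autoImplicit false

namespace Cfsg.Agent.Lang

open Cfsg.Lie Cfsg.Agent.ChevGrp Matrix

/-- The word of the regular element. -/
def wordF4 : List (Fin chevF4.rank) := ([0, 1, 2, 1, 2, 3] : List (Fin 4))

/-- Its matrix. -/
def wlF4 : List (List ℤ) := [[-1, -2, -2, -2], [1, 1, 2, 2], [0, 0, -1, -1], [0, 1, 2, 1]]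

set_option maxRecDepth 100000 in
set_option maxHeartbeats 0 in
/-- The tables. -/
def tabF4 : TorusTab where
  kl := [[0, 0, 0, -1], [0, 0, -1, 1], [0, -2, 1, 0], [-1, 0, 0, 0], [-2, 2, -1, 0], [-2, 0, 1, -1], [-2, 0, 0, 1], [1, -1, 0, 0], [0, 1, -1, 0], [0, -1, 1, -1], [0, -1, 0, 1], [-1, 1, 0, -1], [-1, 1, -1, 1], [-1, -1, 1, 0], [-2, 1, 0, 0], [2, 0, -1, 0], [2, -2, 1, -1], [2, -2, 0, 1], [1, 0, 0, -1], [1, 0, -1, 1], [1, -2, 1, 0], [0, 2, -1, -1], [0, 2, -2, 1], [0, 0, 1, -2], [0, 0, -1, 2], [0, -2, 2, -1], [0, -2, 1, 1], [-1, 2, -1, 0], [-1, 0, 1, -1], [-1, 0, 0, 1], [-2, 2, 0, -1], [-2, 2, -1, 1], [-2, 0, 1, 0], [2, -1, 0, 0], [1, 1, -1, 0], [1, -1, 1, -1], [1, -1, 0, 1], [0, 1, 0, -1], [0, 1, -1, 1], [0, -1, 1, 0], [-1, 1, 0, 0], [2, 0, 0, -1], [2, 0, -1, 1], [2, -2, 1, 0], [1, 0, 0, 0], [0, 2, -1, 0], [0, 0, 1, -1],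 [0, 0, 0, 1]]
  perm := [16, 0, 15, 7, 2, 17, 1, 18, 9, 33, 8, 20, 3, 19, 10, 23, 41, 21, 35, 11, 34, 25, 5, 43, 4, 42, 22, 13, 36, 12, 26, 6, 24, 37, 28, 44, 27, 39, 14, 38, 29, 46, 30, 45, 40, 32, 47, 31]
  orbits := [[1, 0, 16, 41, 46, 47, 31, 6], [21, 25, 42, 30, 26, 22, 5, 17], [32, 24, 4, 2, 15, 23, 43, 45], [10, 8, 9, 33, 37, 39, 38, 14], [20, 34, 28, 36, 27, 13, 19, 11], [7, 18, 35, 44, 40, 29, 12, 3]]
  base := [3, 7, 18, 35, 44, 40, 29, 12]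
  binv := [[-1, -1, -1, -1], [0, -1, -1, 0], [0, 0, -1, -1], [0, 0, 1, 0]]
  wit := [0, 0, 0, 0, 0, 0, 0, 0, 2, 2, 2, 2, 0, 2, 2, 0, 0, 0, 0, 2, 2, 0, 0, 0, 0, 0, 0, 2, 2, 0, 0, 0, 0, 2, 2, 0, 2, 2, 2, 2, 0, 0, 0, 0, 0, 0, 0, 0]

set_option maxRecDepth 100000 in
set_option maxHeartbeats 0 in
theorem validF4 : tabF4.Valid chevF4 wordF4 wlF4 where
  kl_ok := by decide +kernel
  nodup_ok := by decide +kernel
  w_ok := by decide +kernel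
  perm_ok := by decide +kernel
  orb_chain := by decide +kernel
  orb_cover := by decide +kernel
  base_chain := by decide +kernel
  base_ne := by decide +kernel
  binv_ok := by decide +kernel
  cent_ok := by decide +kernel

/-- The torus data. -/
def torusF4 : TorusData chevF4 where
  w := wordF4
  M := matL chevF4 [[1, -1, 1, -1], [2, -1, 1, -1], [2, 0, 1, -2], [0, 0, 1, -1]]
  P := matL chevF4 [[1, 0, 0, 0], [1, -1, 1, -1], [1, 0, 0, -1], [1, -1, 0, 0]]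
  Q := matL chevF4 [[1, 0, 0, 0], [1, 0, 0, -1], [1, 1, -1, -1], [1, 0, -1, 0]]
  a := vecL chevF4 [1, 0, 0, 0]
  hM := by
    rw [← matL_prodL, validF4.w_ok]
    decide +kernel
  hPQ := by decide +kernel
  hQP := by decide +kernel
  hPM := by decide +kernel
  pos := by decide +kernel

theorem ordF4 (q : ℕ) : torusF4.ord q = (1) * (q : ℤ) ^ 0 + (1) * (q : ℤ) ^ 4 := by
  rw [TorusData.ord]
  show 1 + (q : ℤ) * ∑ i : Fin 4, vecL chevF4 [1, 0, 0, 0] i * (q : ℤ) ^ (4 - 1 - (i : ℕ)) = _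
  simp [vecL, Fin.sum_univ_succ]
  all_goals ring

theorem wtF4_0 (q : ℕ) :
    ∃ A B : ℤ, A * torusF4.ord q + B * torusF4.wt q (kap chevF4 1) = 2 := by
  refine ⟨(1) * (q : ℤ) ^ 0, (1) * (q : ℤ) ^ 0 + (1) * (q : ℤ) ^ 2, ?_⟩
  have e : kap chevF4 1 ᵥ* torusF4.Q = vecL chevF4 [0, -1, 0, 1] := by decide +kernel
  rw [ordF4, TorusData.wt, e]
  show _ + _ * ∑ i : Fin 4, vecL chevF4 [0, -1, 0, 1] i * (q : ℤ) ^ (4 - 1 - (i : ℕ)) = _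
  simp [vecL, Fin.sum_univ_succ]
  all_goals ring

theorem wtF4_1 (q : ℕ) :
    ∃ A B : ℤ, A * torusF4.ord q + B * torusF4.wt q (kap chevF4 21) = 2 := by
  refine ⟨(3) * (q : ℤ) ^ 0 + (-2) * (q : ℤ) ^ 1, (1) * (q : ℤ) ^ 0 + (-1) * (q : ℤ) ^ 2 + (-2) * (q : ℤ) ^ 3, ?_⟩
  have e : kap chevF4 21 ᵥ* torusF4.Q = vecL chevF4 [0, -1, 2, -1] := by decide +kernel
  rw [ordF4, TorusData.wt, e]
  show _ + _ * ∑ i : Fin 4, vecL chevF4 [0, -1, 2, -1] i * (q : ℤ) ^ (4 - 1 - (i : ℕ)) = _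
  simp [vecL, Fin.sum_univ_succ]
  all_goals ring

theorem wtF4_2 (q : ℕ) :
    ∃ A B : ℤ, A * torusF4.ord q + B * torusF4.wt q (kap chevF4 32) = 2 := by
  refine ⟨(1) * (q : ℤ) ^ 0 + (-1) * (q : ℤ) ^ 1 + (1) * (q : ℤ) ^ 2, (-1) * (q : ℤ) ^ 0 + (1) * (q : ℤ) ^ 3, ?_⟩
  have e : kap chevF4 32 ᵥ* torusF4.Q = vecL chevF4 [-1, 1, -1, -1] := by decide +kernel
  rw [ordF4, TorusData.wt, e]
  show _ + _ * ∑ i : Fin 4, vecL chevF4 [-1, 1, -1, -1] i * (q : ℤ) ^ (4 - 1 - (i : ℕ)) = _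
  simp [vecL, Fin.sum_univ_succ]
  all_goals ring

theorem wtF4_3 (q : ℕ) :
    ∃ A B : ℤ, A * torusF4.ord q + B * torusF4.wt q (kap chevF4 10) = 2 := by
  refine ⟨(1) * (q : ℤ) ^ 0, (1) * (q : ℤ) ^ 0 + (1) * (q : ℤ) ^ 1 + (1) * (q : ℤ) ^ 2 + (1) * (q : ℤ) ^ 3, ?_⟩
  have e : kap chevF4 10 ᵥ* torusF4.Q = vecL chevF4 [0, 0, -1, 1] := by decide +kernel
  rw [ordF4, TorusData.wt, e]
  show _ + _ * ∑ i : Fin 4, vecL chevF4 [0, 0, -1, 1] i * (q : ℤ) ^ (4 - 1 - (i : ℕ)) = _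
  simp [vecL, Fin.sum_univ_succ]
  all_goals ring

theorem wtF4_4 (q : ℕ) :
    ∃ A B : ℤ, A * torusF4.ord q + B * torusF4.wt q (kap chevF4 20) = 1 := by
  refine ⟨(1) * (q : ℤ) ^ 1, (1) * (q : ℤ) ^ 0 + (-1) * (q : ℤ) ^ 2 + (-1) * (q : ℤ) ^ 3, ?_⟩
  have e : kap chevF4 20 ᵥ* torusF4.Q = vecL chevF4 [0, 1, -1, 1] := by decide +kernel
  rw [ordF4, TorusData.wt, e]
  show _ + _ * ∑ i : Fin 4, vecL chevF4 [0, 1, -1, 1] i * (q : ℤ) ^ (4 - 1 - (i : ℕ)) = _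
  simp [vecL, Fin.sum_univ_succ]
  all_goals ring

theorem wtF4_5 (q : ℕ) :
    ∃ A B : ℤ, A * torusF4.ord q + B * torusF4.wt q (kap chevF4 7) = 1 := by
  refine ⟨(0 : ℤ), (1) * (q : ℤ) ^ 0, ?_⟩
  have e : kap chevF4 7 ᵥ* torusF4.Q = vecL chevF4 [0, 0, 0, 1] := by decide +kernel
  rw [ordF4, TorusData.wt, e]
  show _ + _ * ∑ i : Fin 4, vecL chevF4 [0, 0, 0, 1] i * (q : ℤ) ^ (4 - 1 - (i : ℕ)) = _
  simp [vecL, Fin.sum_univ_succ]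
  all_goals ring

theorem repF4 (q : ℕ) : ∀ r ∈ tabF4.orbits.map (fun o => o.headD 0),
    ∃ A B : ℤ, ∃ c : ℤ, (c = 1 ∨ c = 2) ∧ A * torusF4.ord q + B * torusF4.wt q (kap chevF4 r) = c := by
  intro r hr
  have hr' : r ∈ [1, 21, 32, 10, 20, 7] := hr
  simp only [List.mem_cons, List.not_mem_nil, or_false] at hr'
  rcases hr' with rfl | rfl | rfl | rfl | rfl | rfl
  · obtain ⟨A, B, e⟩ := wtF4_0 q
    exact ⟨A, B, _, Or.inr rfl, e⟩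
  · obtain ⟨A, B, e⟩ := wtF4_1 q
    exact ⟨A, B, _, Or.inr rfl, e⟩
  · obtain ⟨A, B, e⟩ := wtF4_2 q
    exact ⟨A, B, _, Or.inr rfl, e⟩
  · obtain ⟨A, B, e⟩ := wtF4_3 q
    exact ⟨A, B, _, Or.inr rfl, e⟩
  · obtain ⟨A, B, e⟩ := wtF4_4 q
    exact ⟨A, B, _, Or.inl rfl, e⟩
  · obtain ⟨A, B, e⟩ := wtF4_5 q
    exact ⟨A, B, _, Or.inl rfl, e⟩

end Cfsg.Agent.Lang
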